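import Cfsg.Agent.Lib.RuRecog.Stab

set_option autoImplicit false
set_option maxRecDepth 100000

/-!
An automorphism of the graph fixing two adjacent lines and normalizing their stabiliser comes from the stabiliser.
-/

namespace CfsgLib.RuRecog

open Cfsg.Spor CfsgLib.RuLattice Finset MulAction

/-- The bijection of an element of the stabiliser. -/
noncomputable def perm (g : Sg) : Equiv.Perm (Fin 4060) := MulAction.toPerm (g : fourRu)

theorem perm_apply (g : Sg) (p : Fin 4060) : perm g p = g • p := rfl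

/-- A bijection normalizing the stabiliser of the base line. -/
def Norm (σ : Equiv.Perm (Fin 4060)) : Prop :=
  ∀ g : Sg, g • L 1 = L 1 → ∃ g' : Sg, g' • L 1 = L 1 ∧ ∀ p, σ (g • p) = g' • σ p

/-- The hypotheses kept through the reduction. -/
structure Good (σ : Equiv.Perm (Fin 4060)) : Prop where
  aut : IsAut σ
  zero : σ (L 0) = L 0
  one : σ (L 1) = L 1
  norm : Norm σ

theorem Good.shift {σ : Equiv.Perm (Fin 4060)} (h : Good σ) {k : Sg} (hk : k • L 1 = L 1) :
    Good ((perm k)⁻¹ * σ) := by
  have e : ∀ p, ((perm k)⁻¹ * σ) p = k⁻¹ • σ p := fun p => rfl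
  have hk' : k⁻¹ • L 1 = L 1 := by rw [inv_smul_eq_iff, hk]
  refine ⟨fun p q => ?_, ?_, ?_, fun g hg => ?_⟩
  · rw [e, e, adj_Sg, h.aut]
  · rw [e, h.zero]; exact fix0 _
  · rw [e, h.one, hk']
  · obtain ⟨g', hg', H⟩ := h.norm g hg
    refine ⟨k⁻¹ * g' * k, by rw [mul_smul, mul_smul, hk, hg', hk'], fun p => ?_⟩
    rw [e, e, H, mul_smul, mul_smul, smul_inv_smul]

/-- The check of the large suborbit. -/
def classStep (q : ℕ) : Bool :=
  !(smallB q) || Nat.beq q 1 || bitAt (rowM 1) q ||
    (Nat.ble 730 (fPos q) && Nat.blt (fPos q) 1754 && Nat.beq (fT (fPos q)) q)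

theorem class_check : (List.range 4060).all classStep = true := by decide +kernel

/-- Four small facts. -/
theorem base_facts : smallB 249 = true ∧ bitAt (rowM 1) 249 = false ∧ rowPt 0 = 0 ∧ rowPt 1 = 1 ∧ rowPt 3 = 249 ∧
    rowPt 4 = 427 ∧ rowPt 5 = 3 := by decide +kernel

theorem reduce_249 {σ : Equiv.Perm (Fin 4060)} (h : Good σ) :
    ∃ k : Sg, k • L 1 = L 1 ∧ Good ((perm k)⁻¹ * σ) ∧ ((perm k)⁻¹ * σ) (L 249) = L 249 := by
  have hc := class_check
  simp only [List.all_eq_true, List.mem_range, classStep, Bool.or_eq_true, Bool.and_eq_true, Bool.not_eq_true',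
    Nat.beq_eq, Nat.ble_eq, Nat.blt_eq] at hc
  obtain ⟨f1, f2, f3, f4, -, -, -⟩ := base_facts
  have hl : ((L 249 : Fin 4060) : ℕ) = 249 := L_val (by norm_num)
  have hs : smallB (σ (L 249) : Fin 4060) = true := by
    rw [← adj_zero, show (0 : Fin 4060) = L 0 from rfl, ← h.zero, h.aut, show L 0 = 0 from rfl, adj_zero, hl, f1]
  have hb : bitAt (rowM 1) (σ (L 249) : Fin 4060) = false := by
    rw [bit_image h.aut (by norm_num) (by rw [f4]; exact h.one), hl, f2]
  have hne : ((σ (L 249) : Fin 4060) : ℕ) ≠ 1 := by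
    intro e
    have := congrArg L e
    rw [L_fin, ← h.one] at this
    have := L_inj (by norm_num) (by norm_num) (σ.injective this)
    omega
  rcases hc _ (σ (L 249)).2 with ((e | e) | e) | ⟨⟨e1, e2⟩, e3⟩
  · rw [hs] at e; exact absurd e (by decide)
  · exact absurd e hne
  · rw [hb] at e; exact absurd e (by decide)
  · obtain ⟨t1, t2⟩ := tI_spec _ e1 e2
    refine ⟨_, t1, h.shift t1, ?_⟩
    show (tI _)⁻¹ • σ (L 249) = L 249
    rw [inv_smul_eq_iff, t2, e3, L_fin]

/-- The number of the twenty elements fixing a line. -/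
def stabCount (q : ℕ) : ℕ := (List.range 20).countP fun j => Nat.beq (wl (kWord j) q) q

theorem stabCount_eq (q : Fin 4060) : stabCount q = (univ.filter fun j : Fin 20 => kF j • q = q).card := by
  rw [stabCount, List.countP_eq_length_filter, ← card_fin_filter]
  congr 1
  refine Finset.filter_congr fun j _ => ?_
  rw [Nat.beq_eq]
  constructor
  · intro e; refine Fin.ext ?_; rw [kF, pt_el (kWord_spec j.2).1, e]
  · intro e; rw [← pt_el (kWord_spec j.2).1]; exact congrArg Fin.val e

theorem stabCount_image {σ : Equiv.Perm (Fin 4060)} (h : Good σ) (h2 : σ (L 249) = L 249) (q : Fin 4060) :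
    stabCount (σ q) = stabCount q := by
  have H : ∀ j : Fin 20, ∃ j' : Fin 20, ∀ p, σ (kF j • p) = kF j' • σ p := by
    intro j
    obtain ⟨g', g1, e⟩ := h.norm (kF j) (kWord_spec j.2).2.1
    have g2 : g' • L 249 = L 249 := by
      have := e (L 249); rwa [(kWord_spec j.2).2.2, h2, eq_comm] at this
    obtain ⟨j', hj', rfl⟩ := stab_rep_two g1 g2
    exact ⟨⟨j', hj'⟩, e⟩
  choose f hf using H
  have finj : Function.Injective f := by
    intro a b e
    have key : ∀ p, kF (a : ℕ) • p = kF (b : ℕ) • p := fun p => σ.injective (by rw [hf, hf, e])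
    have hk := fix_check
    simp only [List.all_eq_true, List.mem_range, Bool.and_eq_true, Bool.or_eq_true, Nat.beq_eq, Bool.not_eq_true'] at hk
    refine Fin.ext (((hk a a.2).2 b b.2).resolve_right ?_)
    have e' : ∀ n < 4060, wl (kWord a) n = wl (kWord b) n := by
      intro n hn
      have := key (L n)
      rw [kF, kF, el_L (kWord_spec a.2).1 hn, el_L (kWord_spec b.2).1 hn] at this
      exact L_inj (wl_lt (kWord_spec a.2).1 hn) (wl_lt (kWord_spec b.2).1 hn) this
    rw [kPair, kPair, e' 427 (by norm_num), e' 3 (by norm_num), Nat.beq_refl]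
    exact Bool.noConfusion
  have fbij := Finite.injective_iff_bijective.1 finj
  rw [stabCount_eq, stabCount_eq]
  refine (Finset.card_bij (fun j _ => f j) ?_ (fun a _ b _ e => finj e) ?_).symm
  · intro j hj
    rw [mem_filter] at hj ⊢
    exact ⟨mem_univ _, by rw [← hf, hj.2]⟩
  · intro j' hj'
    obtain ⟨j, rfl⟩ := fbij.2 j'
    rw [mem_filter] at hj'
    exact ⟨j, mem_filter.2 ⟨mem_univ _, σ.injective (by rw [hf, hj'.2])⟩, rfl⟩

/-- The rows numbered by a list, compared at two lines. -/
def samePat (rs : List ℕ) (q p : ℕ) : Bool := rs.all fun i => bitAt (rowM i) q == bitAt (rowM i) p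

theorem samePat_image {σ : Equiv.Perm (Fin 4060)} (hσ : IsAut σ) {rs : List ℕ}
    (hrs : ∀ i ∈ rs, i < 28 ∧ σ (L (rowPt i)) = L (rowPt i)) (q : Fin 4060) (p : ℕ) :
    samePat rs (σ q : Fin 4060) p = samePat rs q p := by
  unfold samePat
  induction rs with
  | nil => rfl
  | cons a r ih =>
    obtain ⟨a1, a2⟩ := hrs a (by simp)
    rw [List.all_cons, List.all_cons, bit_image hσ a1 a2, ih fun i hi => hrs i (by simp [hi])]

/-- A line among stored ones. -/
def memRows (rs : List ℕ) (q : ℕ) : Bool := rs.any fun i => Nat.beq q (rowPt i)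

theorem memRows_iff {rs : List ℕ} {q : Fin 4060} : memRows rs q = true ↔ ∃ i ∈ rs, q = L (rowPt i) := by
  simp only [memRows, List.any_eq_true, Nat.beq_eq]
  exact exists_congr fun i => and_congr_right fun _ =>
    ⟨fun e => Fin.ext (by rw [L_val (rowPt_lt i), e]), fun e => by rw [e, L_val (rowPt_lt i)]⟩

theorem not_memRows_image {σ : Equiv.Perm (Fin 4060)} {rs : List ℕ} (hrs : ∀ i ∈ rs, σ (L (rowPt i)) = L (rowPt i))
    {q : Fin 4060} (h : memRows rs q = false) : memRows rs (σ q : Fin 4060) = false := by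
  rw [← Bool.not_eq_true, memRows_iff] at h ⊢
  rintro ⟨i, hi, e⟩
  exact h ⟨i, hi, σ.injective (e.trans (hrs i hi).symm)⟩

/-- One step: the fixed rows, the class of a further line and the set it makes up. -/
def orbStep (rs set : List ℕ) (p q : ℕ) : Bool :=
  (!(samePat rs q p) || memRows rs q || memRows set q || !(Nat.beq (stabCount q) (stabCount p)))

theorem orbA : (List.range 4060).all (orbStep [0, 1, 3] setA 427) = true := by decide +kernel
theorem orbB : (List.range 4060).all (orbStep [0, 1, 3, 4] setB 3) = true := by decide +kernel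

/-- The stored sets lie in their classes and are reached by the twenty elements. -/
def setStep (rs set mov : List ℕ) (p : ℕ) : Bool :=
  (List.range set.length).all fun a => samePat rs (rowPt (set.getD a 0)) p && !(memRows rs (rowPt (set.getD a 0))) &&
    Nat.beq (stabCount (rowPt (set.getD a 0))) (stabCount p) && Nat.blt (mov.getD a 0) 20 &&
    Nat.beq (wl (kWord (mov.getD a 0)) p) (rowPt (set.getD a 0)) &&
    rs.all fun i => Nat.beq (wl (kWord (mov.getD a 0)) (rowPt i)) (rowPt i)

theorem sets_ok : setStep [0, 1, 3] setA movA 427 = true ∧ setStep [0, 1, 3, 4] setB movB 3 = true := by decide +kernel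

theorem set_image {σ : Equiv.Perm (Fin 4060)} (h : Good σ) (h2 : σ (L 249) = L 249) {rs set mov : List ℕ} {p : ℕ}
    (hrs : ∀ i ∈ rs, i < 28 ∧ σ (L (rowPt i)) = L (rowPt i))
    (ho : (List.range 4060).all (orbStep rs set p) = true) (hs : setStep rs set mov p = true) {q : Fin 4060}
    (hq : memRows set q = true) : memRows set (σ q : Fin 4060) = true := by
  simp only [setStep, List.all_eq_true, List.mem_range, Bool.and_eq_true, Bool.not_eq_true', Nat.beq_eq] at hs
  simp only [orbStep, List.all_eq_true, List.mem_range, Bool.or_eq_true, Bool.not_eq_true', ← Bool.not_eq_true,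
    Nat.beq_eq] at ho
  obtain ⟨i, hi, rfl⟩ := memRows_iff.1 hq
  obtain ⟨a, ha, rfl⟩ := List.getElem_of_mem hi
  have h' := hs a ha
  rw [List.getD_eq_getElem _ _ ha] at h'
  rcases ho _ (σ (L (rowPt set[a]))).2 with ((e | e) | e) | e
  · rw [samePat_image h.aut hrs, L_val (rowPt_lt _)] at e
    exact absurd h'.1.1.1.1.1 e
  · rw [not_memRows_image (fun i hi => (hrs i hi).2) (by rw [L_val (rowPt_lt _)]; exact h'.1.1.1.1.2)] at e
    exact Bool.noConfusion e
  · exact e
  · rw [stabCount_image h h2, L_val (rowPt_lt _)] at e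
    exact absurd h'.1.1.1.2 e

theorem set_reduce {σ : Equiv.Perm (Fin 4060)} (h : Good σ) (h2 : σ (L 249) = L 249) {rs set mov : List ℕ} {p : ℕ}
    (hp : p < 4060) (hrs : ∀ i ∈ rs, i < 28 ∧ σ (L (rowPt i)) = L (rowPt i)) (h13 : 3 ∈ rs)
    (ho : (List.range 4060).all (orbStep rs set p) = true) (hs : setStep rs set mov p = true)
    (hpm : memRows set p = true) :
    ∃ k : Sg, k • L 1 = L 1 ∧ Good ((perm k)⁻¹ * σ) ∧ ((perm k)⁻¹ * σ) (L p) = L p ∧
      ∀ i ∈ rs, ((perm k)⁻¹ * σ) (L (rowPt i)) = L (rowPt i) := by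
  have hm : memRows set (σ (L p) : Fin 4060) = true := set_image h h2 hrs ho hs (by rwa [L_val hp])
  obtain ⟨i, hi, e⟩ := memRows_iff.1 hm
  obtain ⟨a, ha, rfl⟩ := List.getElem_of_mem hi
  simp only [setStep, List.all_eq_true, List.mem_range, Bool.and_eq_true, Nat.beq_eq, Nat.blt_eq] at hs
  obtain ⟨⟨⟨-, hj⟩, hm'⟩, hfix⟩ := hs a ha
  rw [List.getD_eq_getElem _ _ ha] at hm'
  obtain ⟨k1, k2, -⟩ := kWord_spec hj
  refine ⟨_, k2, h.shift k2, ?_, fun i hi' => ?_⟩
  · show (kF _)⁻¹ • σ (L p) = L p
    rw [inv_smul_eq_iff, e, kF, el_L k1 hp, hm']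
  · show (kF _)⁻¹ • σ (L (rowPt i)) = L (rowPt i)
    rw [inv_smul_eq_iff, (hrs i hi').2, kF, el_L k1 (rowPt_lt _), hfix i hi']

/-- The number of lines of a stored set adjacent to a line. -/
def setCount (set : List ℕ) (q : ℕ) : ℕ := set.countP fun i => bitAt (rowM i) q

theorem sets_nodup : (setA.map rowPt).Nodup ∧ (setB.map rowPt).Nodup ∧ (∀ i ∈ setA, i < 28) ∧ (∀ i ∈ setB, i < 28) ∧
    memRows setA 427 = true ∧ memRows setB 3 = true := by decide +kernel

theorem setCount_eq {set : List ℕ} (hn : (set.map rowPt).Nodup) (hlt : ∀ i ∈ set, i < 28) (q : Fin 4060) :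
    setCount set q = (univ.filter fun a : Fin 4060 => memRows set a = true ∧ adj a q = true).card := by
  induction set with
  | nil => simp [setCount, memRows]
  | cons b r ih =>
    rw [List.map_cons, List.nodup_cons] at hn
    have hb := row_spec (hlt b (by simp)) q
    have hnot : memRows r (L (rowPt b) : Fin 4060) = false := by
      rw [← Bool.not_eq_true, memRows_iff]
      rintro ⟨i, hi, e⟩
      exact hn.1 (List.mem_map.2 ⟨i, hi, (L_inj (rowPt_lt _) (rowPt_lt _) e).symm⟩)
    have hset : (univ.filter fun a : Fin 4060 => memRows (b :: r) a = true ∧ adj a q = true) =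
        (if bitAt (rowM b) q then {L (rowPt b)} else ∅) ∪
          univ.filter fun a : Fin 4060 => memRows r a = true ∧ adj a q = true := by
      ext a
      simp only [memRows_iff, List.mem_cons, or_and_right, exists_or, exists_eq_left, mem_filter, mem_univ, true_and,
        mem_union]
      refine or_congr ?_ Iff.rfl
      split_ifs with hbit
      · rw [mem_singleton]
        exact ⟨fun h => h.1, fun h => ⟨h, by rw [h, hb, hbit]⟩⟩
      · simp only [Finset.notMem_empty, iff_false, not_and]
        rintro rfl; rw [hb]; exact hbit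
    rw [setCount, List.countP_cons, ← setCount, hset, Finset.card_union_of_disjoint, ih hn.2 fun i hi => hlt i (by simp [hi])]
    · split_ifs <;> simp [Nat.add_comm]
    · split_ifs
      · rw [disjoint_singleton_left, mem_filter]
        rintro ⟨-, h, -⟩; rw [hnot] at h; exact Bool.noConfusion h
      · exact disjoint_empty_left _

theorem setCount_image {σ : Equiv.Perm (Fin 4060)} (hσ : IsAut σ) {set : List ℕ} (hn : (set.map rowPt).Nodup)
    (hlt : ∀ i ∈ set, i < 28) (hset : ∀ a : Fin 4060, memRows set a = true → memRows set (σ a : Fin 4060) = true)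
    (q : Fin 4060) : setCount set (σ q : Fin 4060) = setCount set q := by
  rw [setCount_eq hn hlt, setCount_eq hn hlt]
  have hiff : ∀ a : Fin 4060, memRows set a = true ↔ memRows set (σ a : Fin 4060) = true := by
    have himg : (univ.filter fun a : Fin 4060 => memRows set a = true).image σ =
        univ.filter fun a : Fin 4060 => memRows set a = true := by
      refine Finset.eq_of_subset_of_card_le (fun b hb => ?_) (by rw [card_image_of_injective _ σ.injective])
      obtain ⟨a, ha, rfl⟩ := mem_image.1 hb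
      simp only [mem_filter, mem_univ, true_and] at ha ⊢
      exact hset a ha
    intro a
    refine ⟨hset a, fun h => ?_⟩
    have : σ a ∈ (univ.filter fun a : Fin 4060 => memRows set a = true).image σ := by
      rw [himg]; simpa using h
    obtain ⟨b, hb, e⟩ := mem_image.1 this
    rw [← σ.injective e]
    exact (mem_filter.1 hb).2
  symm
  refine Finset.card_bij (fun a _ => σ a) ?_ (fun a _ b _ e => σ.injective e) ?_
  · intro a ha
    simp only [mem_filter, mem_univ, true_and] at ha ⊢
    exact ⟨(hiff a).1 ha.1, by rw [hσ]; exact ha.2⟩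
  · intro b hb
    simp only [mem_filter, mem_univ, true_and] at hb
    obtain ⟨a, rfl⟩ := σ.surjective b
    refine ⟨a, ?_, rfl⟩
    simp only [mem_filter, mem_univ, true_and]
    exact ⟨(hiff a).2 hb.1, by rw [← hσ]; exact hb.2⟩

/-- The earlier pins. -/
def before (j : ℕ) : List ℕ := pinIdx.take j

/-- One pin determined by the earlier ones. -/
def pinStep (j q : ℕ) : Bool :=
  Nat.beq q (rowPt (pinRow j)) || memRows (before j) q || !(samePat (before j) q (rowPt (pinRow j))) ||
    !(Nat.beq (setCount setA q) (setCount setA (rowPt (pinRow j)))) ||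
    !(Nat.beq (setCount setB q) (setCount setB (rowPt (pinRow j))))

/-- All later pins. -/
def pinsCheck : Bool :=
  (List.range 15).all fun d => !(memRows (before (5 + d)) (rowPt (pinRow (5 + d)))) && (List.range 4060).all (pinStep (5 + d))

theorem pins_check : pinsCheck = true := by decide +kernel

theorem pins_head : (List.range 20).all (fun j => (before j).all fun i => (List.range j).any fun k => Nat.beq i (pinRow k)) = true ∧
    pinRow 0 = 0 ∧ pinRow 1 = 1 ∧ pinRow 2 = 3 ∧ pinRow 3 = 4 ∧ pinRow 4 = 5 := by decide +kernel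

/-- An automorphism fixing the first five pins is trivial. -/
theorem eq_one_of_five {σ : Equiv.Perm (Fin 4060)} (h : Good σ) (h2 : σ (L 249) = L 249) (h3 : σ (L 427) = L 427)
    (h4 : σ (L 3) = L 3) : σ = 1 := by
  obtain ⟨-, -, f0, f1, f3, f4, f5⟩ := base_facts
  obtain ⟨hb, p0, p1, p2, p3, p4⟩ := pins_head
  simp only [List.all_eq_true, List.mem_range, List.any_eq_true, Nat.beq_eq] at hb
  obtain ⟨nA, nB, lA, lB, -, -⟩ := sets_nodup
  have hrA : ∀ i ∈ [0, 1, 3], i < 28 ∧ σ (L (rowPt i)) = L (rowPt i) := by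
    simp [f0, f1, f3, h.zero, h.one, h2]
  have hrB : ∀ i ∈ [0, 1, 3, 4], i < 28 ∧ σ (L (rowPt i)) = L (rowPt i) := by
    simp [f0, f1, f3, f4, h.zero, h.one, h2, h3]
  have iA := fun q : Fin 4060 => setCount_image h.aut nA lA (fun a => set_image h h2 hrA orbA sets_ok.1) q
  have iB := fun q : Fin 4060 => setCount_image h.aut nB lB (fun a => set_image h h2 hrB orbB sets_ok.2) q
  refine eq_one_of_pins h.aut fun j => ?_
  induction j using Nat.strong_induction_on with
  | _ j ih =>
    intro hj
    by_cases h5 : j < 5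
    · interval_cases j
      · rw [p0, f0]; exact h.zero
      · rw [p1, f1]; exact h.one
      · rw [p2, f3]; exact h2
      · rw [p3, f4]; exact h3
      · rw [p4, f5]; exact h4
    · have hr : ∀ i ∈ before j, i < 28 ∧ σ (L (rowPt i)) = L (rowPt i) := by
        intro i hi
        obtain ⟨k, hk, rfl⟩ := hb j hj i hi
        exact ⟨pinRow_lt (by omega), ih k hk (by omega)⟩
      have hp := pins_check
      simp only [pinsCheck, List.all_eq_true, List.mem_range, Bool.and_eq_true, Bool.not_eq_true'] at hp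
      obtain ⟨hn, hs⟩ := hp (j - 5) (by omega)
      rw [show 5 + (j - 5) = j by omega] at hn hs
      have hq : ((L (rowPt (pinRow j)) : Fin 4060) : ℕ) = rowPt (pinRow j) := L_val (rowPt_lt _)
      have := hs _ (σ (L (rowPt (pinRow j)))).2
      simp only [pinStep, Bool.or_eq_true, Bool.not_eq_true', ← Bool.not_eq_true, Nat.beq_eq] at this
      rcases this with (((e | e) | e) | e) | e
      · exact Fin.ext (by rw [e, hq])
      · rw [not_memRows_image (fun i hi => (hr i hi).2) (by rw [hq]; exact hn)] at e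
        exact Bool.noConfusion e
      · rw [samePat_image h.aut hr, hq] at e
        exact absurd (List.all_eq_true.2 fun i _ => beq_self_eq_true _) e
      · rw [iA, hq] at e; exact absurd rfl e
      · rw [iB, hq] at e; exact absurd rfl e

/-- An automorphism fixing two adjacent lines and normalizing their stabiliser comes from the stabiliser. -/
theorem mem_image_of_good {σ : Equiv.Perm (Fin 4060)} (h : Good σ) : ∃ g : Sg, σ = perm g := by
  obtain ⟨-, -, f0, f1, f3, f4, f5⟩ := base_facts
  obtain ⟨-, -, -, -, mA, mB⟩ := sets_nodup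
  obtain ⟨a, -, ga, ea⟩ := reduce_249 h
  obtain ⟨b, hb, gb, eb, fb⟩ := set_reduce ga ea (rs := [0, 1, 3]) (p := 427) (by norm_num)
    (fun i hi => by
      simp only [List.mem_cons, List.not_mem_nil, or_false] at hi
      rcases hi with rfl | rfl | rfl
      exacts [⟨by norm_num, f0 ▸ ga.zero⟩, ⟨by norm_num, f1 ▸ ga.one⟩, ⟨by norm_num, f3 ▸ ea⟩]) (by simp) orbA sets_ok.1 mA
  have eb2 : ((perm b)⁻¹ * ((perm a)⁻¹ * σ)) (L 249) = L 249 := by have := fb 3 (by simp); rwa [f3] at this
  obtain ⟨c, hc, gc, ec, fc⟩ := set_reduce gb eb2 (rs := [0, 1, 3, 4]) (p := 3) (by norm_num)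
    (fun i hi => by
      simp only [List.mem_cons, List.not_mem_nil, or_false] at hi
      rcases hi with rfl | rfl | rfl | rfl
      exacts [⟨by norm_num, f0 ▸ gb.zero⟩, ⟨by norm_num, f1 ▸ gb.one⟩, ⟨by norm_num, f3 ▸ eb2⟩,
        ⟨by norm_num, f4 ▸ eb⟩]) (by simp) orbB sets_ok.2 mB
  have := eq_one_of_five gc (by have := fc 3 (by simp); rwa [f3] at this) (by have := fc 4 (by simp); rwa [f4] at this) ec
  refine ⟨a * b * c, ?_⟩
  rw [mul_eq_one_iff_eq_inv', inv_inv] at this
  have e2 : σ = perm a * (perm b * perm c) := by rw [← this]; group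
  rw [e2]
  refine Equiv.ext fun p => ?_
  simp only [Equiv.Perm.mul_apply, perm_apply, mul_smul]

end CfsgLib.RuRecog
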