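import Cfsg.Agent.Lib.RuRecog.TraceT
import Cfsg.Agent.Lib.RuRecog.Aut

set_option autoImplicit false
set_option maxRecDepth 100000

/-!
Invariant sets of lines in the model and the membership criterion for the group of the model.
-/

namespace CfsgLib.RuRecog

open Cfsg.Spor CfsgLib.RuLattice Finset MulAction

/-- The three small classes are the common neighbours. -/
def clsStep (q : ℕ) : Bool :=
  !(smallB q) || Nat.beq q 1 || (bitAt (rowM 1) q == Nat.blt (fPos q) 730)

theorem cls_check : (List.range 4060).all clsStep = true := by decide +kernel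

theorem cls_lt (i : ℕ) : (pCls i ≠ 3) ↔ i < 730 := by
  unfold pCls
  split_ifs with h1 h2 h3 <;> simp <;> omega

theorem cls_adj {x : SmallL} (hx : x ≠ sPt) : adj (L 1) (x : Fin 4060) = true ↔ sCls x ≠ 3 := by
  have h := cls_check
  simp only [List.all_eq_true, List.mem_range, clsStep, Bool.or_eq_true, Bool.not_eq_true', Nat.beq_eq, beq_iff_eq] at h
  obtain ⟨-, -, -, f4, -, -, -⟩ := base_facts
  rw [sCls, cls_lt, ← f4, row_spec (by norm_num)]
  rcases h _ (x : Fin 4060).2 with (e | e) | e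
  · rw [x.2] at e; exact absurd e (by decide)
  · refine absurd (Subtype.ext ?_) hx
    rw [← L_one, ← e, L_fin]
  · rw [e, Nat.blt_eq]

/-- An invariant set in the lines orthogonal to two lines is a union of classes. -/
theorem near_set {T : Finset (Fin 4060)} (hT : ∀ q ∈ T, smallB q = true ∧ q ≠ L 1)
    (hinv : ∀ g : Sg, g • L 1 = L 1 → ∀ q ∈ T, g • q ∈ T) :
    ∃ K : Finset (Fin 4), T.card = ∑ k ∈ K, ![10, 80, 640, 1024] k ∧
      ∀ x : SmallL, x ≠ sPt → ((x : Fin 4060) ∈ T ↔ sCls x ∈ K) := by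
  set K := univ.filter fun k : Fin 4 => ln (4 * fT (pRoot k)) ∈ T with hK
  have hiff : ∀ x : SmallL, x ≠ sPt → ((x : Fin 4060) ∈ T ↔ sCls x ∈ K) := by
    intro x hx
    have cov := forest_cover
    simp only [List.all_eq_true, List.mem_range, Bool.or_eq_true, Bool.not_eq_true', Bool.and_eq_true, Nat.blt_eq] at cov
    rcases cov (x : Fin 4060) (x : Fin 4060).2 with (hc | hc) | ⟨hlt, hc⟩
    · rw [x.2] at hc; simp at hc
    · exact absurd (Subtype.ext (Fin.ext (Nat.eq_of_beq_eq_true hc))) hx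
    · obtain ⟨g, hg, e⟩ := forest_mem _ hlt
      rw [Nat.eq_of_beq_eq_true hc, ln_four] at e
      have hg' : g • L 1 = L 1 := mem_stab_sPt.1 (mem_stabilizer_iff.2 hg)
      have hg'' : g⁻¹ • L 1 = L 1 := by rw [inv_smul_eq_iff, hg']
      have e' : g • ln (4 * fT (pRoot (sCls x))) = (x : Fin 4060) := e
      rw [hK, mem_filter, ← e']
      refine ⟨fun h => ⟨mem_univ _, ?_⟩, fun h => hinv g hg' _ h.2⟩
      have := hinv _ hg'' _ h
      rwa [inv_smul_smul] at this
  refine ⟨K, ?_, hiff⟩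
  set T' := univ.filter fun x : SmallL => x ≠ sPt ∧ sCls x ∈ K
  have h1 : T = T'.map (Function.Embedding.subtype _) := by
    ext q
    simp only [mem_map, Function.Embedding.coe_subtype, T', mem_filter, mem_univ, true_and]
    constructor
    · intro hq
      obtain ⟨h2, h3⟩ := hT q hq
      have hne : (⟨q, h2⟩ : SmallL) ≠ sPt := fun e => h3 (L_one ▸ congrArg Subtype.val e)
      exact ⟨⟨q, h2⟩, ⟨hne, (hiff _ hne).1 hq⟩, rfl⟩
    · rintro ⟨x, ⟨hne, hx⟩, rfl⟩
      exact (hiff x hne).2 hx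
  rw [h1, card_map, Finset.card_eq_sum_card_fiberwise (t := K) (f := sCls) fun x hx => (mem_filter.1 hx).2.2]
  refine sum_congr rfl fun k hk => ?_
  rw [← sCls_size k]
  refine congrArg Finset.card ?_
  ext x
  simp only [T', mem_filter, mem_univ, true_and]
  exact ⟨fun h => ⟨h.1.1, h.2⟩, fun h => ⟨⟨h.1, h.2 ▸ hk⟩, h.2⟩⟩

theorem near_sums : ∀ K : Finset (Fin 4), ∀ l, l = ∑ k ∈ K, ![10, 80, 640, 1024] k →
    (1754 - l) % 256 = 0 → l = 1754 ∨ l = 730 ∧ K = {0, 1, 2} := by
  intro K l e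
  subst e
  revert K
  decide

/-- A far line with the class of its place. -/
def farIn (c q : ℕ) : Bool := !(smallB q) && !(Nat.beq q 0) && Nat.beq (farCls (tabAt farP q)) c

theorem far_sizes : ((List.range 6).all fun c =>
    Nat.beq ((List.range 4060).countP (farIn c)) ([1, 975, 300, 300, 78, 650].getD c 0)) = true := by decide +kernel

/-- The second class is the neighbourhood. -/
def farAdj (q : ℕ) : Bool := smallB q || Nat.beq q 0 || (bitAt (rowM 2) q == Nat.beq (farCls (tabAt farP q)) 1)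

theorem far_adj : (List.range 4060).all farAdj = true := by decide +kernel

theorem far_sums : ∀ K : Finset (Fin 6), 0 ∉ K → ∑ c ∈ K, ![1, 975, 300, 300, 78, 650] c = 975 → K = {1} := by
  decide

/-- An invariant set of 975 far lines is a neighbourhood. -/
theorem far_set {F : Finset (Fin 4060)} (hF : ∀ q ∈ F, smallB q = false ∧ q ≠ 0 ∧ q ≠ L 1475)
    (hinv : ∀ g : Sg, g • L 1475 = L 1475 → ∀ q ∈ F, g • q ∈ F) (hc : F.card = 975)
    {q : Fin 4060} (hq : smallB q = false) (hq0 : q ≠ 0) : q ∈ F ↔ adj (L 1475) q = true := by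
  classical
  obtain ⟨-, r0, hstart, -⟩ := far_roots
  simp only [List.all_eq_true, List.mem_range, Nat.blt_eq] at hstart
  have ht := far_tree
  simp only [List.all_eq_true, List.mem_range, farStep, Bool.and_eq_true, Nat.blt_eq] at ht
  have hcv := far_cover
  simp only [List.all_eq_true, List.mem_range, farCover, Bool.or_eq_true, Bool.and_eq_true, Nat.blt_eq, Nat.beq_eq] at hcv
  have plc : ∀ p : Fin 4060, smallB p = false → p ≠ 0 → tabAt farP p < 2304 ∧ entPt farT (tabAt farP p) = p := by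
    intro p hp hp0
    rcases hcv p p.2 with (a | a) | a
    · rw [hp] at a; exact absurd a (by decide)
    · exact absurd (Fin.ext a) hp0
    · exact a
  have hiff : ∀ p : Fin 4060, smallB p = false → p ≠ 0 →
      (p ∈ F ↔ L (entPt farT (farStart.getD (farCls (tabAt farP p)) 0)) ∈ F) := by
    intro p hp hp0
    obtain ⟨a1, a2⟩ := plc p hp hp0
    obtain ⟨k, hk, ek⟩ := far_rep _ a1
    rw [a2, L_fin] at ek
    constructor
    · intro h
      have := hinv k⁻¹ (by rw [inv_smul_eq_iff, K0_fix hk]) p h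
      rwa [← ek, inv_smul_smul] at this
    · intro h
      have := hinv k (K0_fix hk) _ h
      rwa [ek] at this
  set K := univ.filter fun c : Fin 6 => L (entPt farT (farStart.getD (c : ℕ) 0)) ∈ F with hK
  have h0 : (0 : Fin 6) ∉ K := by
    rw [hK, mem_filter]
    rintro ⟨-, h⟩
    rw [show farStart.getD ((0 : Fin 6) : ℕ) 0 = 0 from rfl, r0] at h
    exact (hF _ h).2.2 rfl
  have hcls : ∀ p : Fin 4060, smallB p = false → p ≠ 0 → farCls (tabAt farP p) < 6 := fun p hp hp0 =>
    (ht _ (plc p hp hp0).1).1.2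
  have hmem : ∀ p : Fin 4060, smallB p = false → p ≠ 0 →
      (p ∈ F ↔ ∃ c ∈ K, farCls (tabAt farP p) = (c : ℕ)) := by
    intro p hp hp0
    rw [hiff p hp hp0]
    constructor
    · intro h
      exact ⟨⟨_, hcls p hp hp0⟩, mem_filter.2 ⟨mem_univ _, h⟩, rfl⟩
    · rintro ⟨c, hc, e⟩
      rw [e]; exact (mem_filter.1 hc).2
  have hFeq : F = K.biUnion fun c => univ.filter fun p : Fin 4060 => farIn c p = true := by
    ext p
    simp only [mem_biUnion, mem_filter, mem_univ, true_and, farIn, Bool.and_eq_true, Bool.not_eq_true',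
      Nat.beq_eq]
    constructor
    · intro h
      obtain ⟨h1, h2, -⟩ := hF p h
      obtain ⟨c, hc, e⟩ := (hmem p h1 h2).1 h
      refine ⟨c, hc, ⟨h1, ?_⟩, e⟩
      rw [← Bool.not_eq_true, Nat.beq_eq]; exact fun e => h2 (Fin.ext e)
    · rintro ⟨c, hc, ⟨h1, h2⟩, e⟩
      refine (hmem p h1 ?_).2 ⟨c, hc, e⟩
      rintro rfl
      exact Bool.noConfusion h2
  have hK1 : K = {1} := by
    refine far_sums K h0 (Eq.trans ?_ hc)
    rw [hFeq, card_biUnion]
    · refine sum_congr rfl fun c _ => ?_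
      have hs := far_sizes
      simp only [List.all_eq_true, List.mem_range, Nat.beq_eq] at hs
      rw [card_filter_eq_countP, hs _ c.2]
      fin_cases c <;> rfl
    · intro c _ d _ hne
      refine disjoint_left.2 fun p hp hp' => hne ?_
      simp only [mem_filter, mem_univ, true_and, farIn, Bool.and_eq_true, Nat.beq_eq] at hp hp'
      exact Fin.ext (hp.2.symm.trans hp'.2)
  rw [hmem q hq hq0, hK1, ← zFix_facts.2.1, row_spec (by norm_num)]
  have hA := far_adj
  simp only [List.all_eq_true, List.mem_range, farAdj, Bool.or_eq_true, Nat.beq_eq, beq_iff_eq] at hA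
  rcases hA q q.2 with (a | a) | a
  · rw [hq] at a; exact absurd a (by decide)
  · exact absurd (Fin.ext a) hq0
  · rw [a, Nat.beq_eq]
    simp only [mem_singleton, exists_eq_left]
    rfl

theorem perm_mem_RuH (g : Sg) : perm g ∈ RuH := ⟨(g : fourRu), Equiv.ext fun _ => rfl⟩

theorem exists_perm_of_fix {π : Equiv.Perm (Fin 4060)} (hπ : π ∈ RuH) (h0 : π (L 0) = L 0) :
    ∃ g : Sg, π = perm g := by
  obtain ⟨g, hg⟩ := stabHom_bij.2 ⟨⟨π, hπ⟩, h0⟩
  refine ⟨g, Equiv.ext fun p => ?_⟩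
  have h1 : ((stabHom g : RuH) • p : Fin 4060) = (⟨π, hπ⟩ : RuH) • p := by rw [hg]
  exact h1.symm

theorem aut_of_mem {π : Equiv.Perm (Fin 4060)} (hπ : π ∈ RuH) : IsAut π := by
  obtain ⟨g, rfl⟩ := hπ
  intro p q
  rw [lineHom_apply, lineHom_apply, adj_smul]

theorem exists_swap : ∃ τ ∈ RuH, τ (L 0) = L 1 ∧ τ (L 1) = L 0 := by
  have := RuH_transitive
  obtain ⟨h, hh⟩ := MulAction.exists_smul_eq RuH (L 1) (L 0)
  have hh' : (h : Equiv.Perm (Fin 4060)) (L 1) = L 0 := hh
  have h1s : smallB (L 1 : Fin 4060) = true := by rw [L_one]; exact sPt.2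
  have hs : smallB ((h : Equiv.Perm (Fin 4060)) (L 0) : Fin 4060) = true := by
    have e := aut_of_mem h.2 (L 1) (L 0)
    rw [hh', show L 0 = 0 from rfl, adj_symm (L 1), adj_zero, adj_zero, h1s] at e
    exact e
  have := small_transitive
  obtain ⟨k, hk⟩ := MulAction.exists_smul_eq (stabs 1) (⟨_, hs⟩ : SmallL) sPt
  refine ⟨perm k * h, mul_mem (perm_mem_RuH k) h.2, ?_, ?_⟩
  · show k • (h : Equiv.Perm (Fin 4060)) (L 0) = L 1
    rw [L_one]
    exact congrArg Subtype.val hk
  · show k • (h : Equiv.Perm (Fin 4060)) (L 1) = L 0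
    rw [hh']
    exact fix0 k

/-- A bijection swapping two adjacent lines and normalizing their stabiliser is in the group of the model. -/
theorem mem_RuH_of_swap {σ : Equiv.Perm (Fin 4060)} (hσ : IsAut σ) (h0 : σ (L 0) = L 1) (h1 : σ (L 1) = L 0)
    (hn : ∀ g : Sg, g • L 1 = L 1 → ∃ g' : Sg, g' • L 1 = L 1 ∧ ∀ p, σ (g • p) = g' • σ p) : σ ∈ RuH := by
  obtain ⟨τ, hτ, t0, t1⟩ := exists_swap
  have hG : Good (τ * σ) := by
    refine ⟨fun p q => ?_, ?_, ?_, fun g hg => ?_⟩
    · rw [Equiv.Perm.mul_apply, Equiv.Perm.mul_apply, aut_of_mem hτ, hσ]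
    · rw [Equiv.Perm.mul_apply, h0, t1]
    · rw [Equiv.Perm.mul_apply, h1, t0]
    · obtain ⟨k, hk, e⟩ := hn g hg
      have hi : τ⁻¹ (L 0) = L 1 ∧ τ⁻¹ (L 1) = L 0 :=
        ⟨Equiv.Perm.inv_eq_iff_eq.2 t1.symm, Equiv.Perm.inv_eq_iff_eq.2 t0.symm⟩
      obtain ⟨k', hk'⟩ := exists_perm_of_fix (π := τ * perm k * τ⁻¹)
        (mul_mem (mul_mem hτ (perm_mem_RuH k)) (inv_mem hτ)) (by
          show τ (k • τ⁻¹ (L 0)) = L 0
          rw [hi.1, hk, t1])
      refine ⟨k', ?_, fun p => ?_⟩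
      · rw [← perm_apply, ← hk']
        show τ (k • τ⁻¹ (L 1)) = L 1
        rw [hi.2, show L 0 = 0 from rfl, fix0, show (0 : Fin 4060) = L 0 from rfl, t0]
      · rw [← perm_apply k', ← hk', Equiv.Perm.mul_apply, Equiv.Perm.mul_apply, e, Equiv.Perm.mul_apply,
          Equiv.Perm.mul_apply, ← Equiv.Perm.mul_apply τ⁻¹ τ, inv_mul_cancel, Equiv.Perm.one_apply, perm_apply]
  obtain ⟨g, hg⟩ := mem_image_of_good hG
  rw [show σ = τ⁻¹ * perm g by rw [← hg, inv_mul_cancel_left]]
  exact mul_mem (inv_mem hτ) (perm_mem_RuH g)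

end CfsgLib.RuRecog
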