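import Cfsg.Agent.Lib.RuRecog.Rows

set_option autoImplicit false
set_option maxRecDepth 100000

/-!
The stabiliser of two lines as a product of a transversal and twenty elements.
-/

namespace CfsgLib.RuRecog

open Cfsg.Spor CfsgLib.RuLattice Finset MulAction

/-- The word of a place in the large suborbit of the stabiliser of two lines. -/
def pW : ℕ → ℕ → List ℕ
  | 0, _ => []
  | f + 1, i => bif Nat.beq i 730 then [] else subW.getD (fG i) [] ++ pW f (fP i)

/-- The transversal. -/
noncomputable def tI (i : ℕ) : Sg := el (pW 1100 i)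

/-- An element fixing two lines. -/
def kWord (j : ℕ) : List ℕ := fixW.getD j []

/-- The elements fixing two lines. -/
noncomputable def kF (j : ℕ) : Sg := el (kWord j)

/-- The check of the transversal. -/
def treeCheck : Bool :=
  (List.range 1024).all fun d => Nat.beq (fPos (fT (730 + d))) (730 + d) && (Nat.beq d 0 ||
    (Nat.blt (fP (730 + d)) (730 + d) && Nat.ble 730 (fP (730 + d)) && Nat.blt (fG (730 + d)) 2 &&
      Nat.beq (wl (subW.getD (fG (730 + d)) []) (fT (fP (730 + d)))) (fT (730 + d))))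

theorem tree_check : treeCheck = true := by decide +kernel

theorem subW_check : (List.range 2).all (fun k => let3 (subW.getD k []) && Nat.beq (wl (subW.getD k []) 1) 1) = true ∧
    sT 0 = 1 ∧ fT 730 = 249 := by decide +kernel

/-- The images of two lines tell the twenty elements apart. -/
def kPair (j : ℕ) : ℕ := wl (kWord j) 427 + 4096 * wl (kWord j) 3

theorem fix_check : ((List.range 20).all fun j => let3 (kWord j) && Nat.beq (wl (kWord j) 1) 1 &&
    Nat.beq (wl (kWord j) 249) 249 && (List.range 20).all fun j' => Nat.beq j j' || !Nat.beq (kPair j) (kPair j')) = true := by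
  decide +kernel

theorem pW_let3 : ∀ f i, 730 ≤ i → i < 1754 → let3 (pW f i) = true := by
  have h := tree_check
  simp only [treeCheck, List.all_eq_true, List.mem_range, Bool.and_eq_true, Bool.or_eq_true, Nat.beq_eq, Nat.blt_eq,
    Nat.ble_eq] at h
  have hs := subW_check.1
  simp only [List.all_eq_true, List.mem_range, Bool.and_eq_true] at hs
  intro f
  induction f with
  | zero => intros; rfl
  | succ f ih =>
    intro i hi hi'
    rw [pW]
    rcases hb : Nat.beq i 730 with _ | _
    · have hne : i ≠ 730 := fun e => by subst e; simp at hb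
      obtain ⟨-, ht⟩ := h (i - 730) (by omega)
      rw [show 730 + (i - 730) = i by omega] at ht
      obtain ⟨⟨⟨h1, h2⟩, h3⟩, -⟩ := ht.resolve_left (by omega)
      have a := (hs _ h3).1
      have b := ih (fP i) h2 (by omega)
      simp only [cond_false, let3, List.all_append, Bool.and_eq_true] at a b ⊢
      exact ⟨a, b⟩
    · rfl

theorem pW_stable : ∀ i, 730 ≤ i → i < 1754 → ∀ f, i - 730 < f → ∀ f', i - 730 < f' → pW f i = pW f' i := by
  have h := tree_check
  simp only [treeCheck, List.all_eq_true, List.mem_range, Bool.and_eq_true, Bool.or_eq_true, Nat.beq_eq, Nat.blt_eq,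
    Nat.ble_eq] at h
  intro i
  induction i using Nat.strong_induction_on with
  | _ i ih =>
    intro hi hi' f hf f' hf'
    obtain ⟨f, rfl⟩ : ∃ g, f = g + 1 := ⟨f - 1, by omega⟩
    obtain ⟨f', rfl⟩ : ∃ g, f' = g + 1 := ⟨f' - 1, by omega⟩
    rw [pW, pW]
    rcases hb : Nat.beq i 730 with _ | _
    · have hne : i ≠ 730 := fun e => by subst e; simp at hb
      obtain ⟨-, ht⟩ := h (i - 730) (by omega)
      rw [show 730 + (i - 730) = i by omega] at ht
      obtain ⟨⟨⟨h1, h2⟩, -⟩, -⟩ := ht.resolve_left (by omega)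
      rw [cond_false, cond_false, ih (fP i) h1 h2 (by omega) f (by omega) f' (by omega)]
    · rfl

theorem tI_root : tI 730 = 1 := by
  rw [tI, pW, Nat.beq_refl, cond_true]
  exact Subtype.ext (by rw [el_val rfl]; rfl)

/-- The parent step of the transversal. -/
theorem tI_step {i : ℕ} (hi : 730 < i) (hi' : i < 1754) :
    fP i < i ∧ 730 ≤ fP i ∧ fG i < 2 ∧ wl (subW.getD (fG i) []) (fT (fP i)) = fT i ∧
      let3 (subW.getD (fG i) []) = true ∧ tI i = el (subW.getD (fG i) []) * tI (fP i) := by
  have h := tree_check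
  simp only [treeCheck, List.all_eq_true, List.mem_range, Bool.and_eq_true, Bool.or_eq_true, Nat.beq_eq, Nat.blt_eq,
    Nat.ble_eq] at h
  have hs := subW_check.1
  simp only [List.all_eq_true, List.mem_range, Bool.and_eq_true] at hs
  obtain ⟨-, ht⟩ := h (i - 730) (by omega)
  rw [show 730 + (i - 730) = i by omega] at ht
  obtain ⟨⟨⟨h1, h2⟩, h3⟩, h4⟩ := ht.resolve_left (by omega)
  refine ⟨h1, h2, h3, h4, (hs _ h3).1, ?_⟩
  have hb : Nat.beq i 730 = false := by
    rw [← Bool.not_eq_true, Nat.beq_eq]; omega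
  rw [tI, pW, hb, cond_false, el_append (hs _ h3).1 (pW_let3 _ _ h2 (by omega)), tI,
    pW_stable (fP i) h2 (by omega) _ (by omega) 1100 (by omega)]

theorem fT_lt (i : ℕ) (hi : i < 1754) : fT i < 4060 := by
  have h := forest
  simp only [forestOK, Bool.and_eq_true, List.all_eq_true, List.mem_range, Nat.blt_eq] at h
  exact (h.2 i hi).1.1

theorem tI_spec : ∀ i, 730 ≤ i → i < 1754 → tI i • L 1 = L 1 ∧ tI i • L 249 = L (fT i) := by
  have hs := subW_check.1
  simp only [List.all_eq_true, List.mem_range, Bool.and_eq_true, Nat.beq_eq] at hs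
  intro i
  induction i using Nat.strong_induction_on with
  | _ i ih =>
    intro hi hi'
    rcases eq_or_lt_of_le hi with rfl | hlt
    · rw [tI_root, one_smul, one_smul, subW_check.2.2]; exact ⟨rfl, rfl⟩
    · obtain ⟨h1, h2, h3, h4, h5, h6⟩ := tI_step hlt hi'
      obtain ⟨a, b⟩ := ih _ h1 h2 (by omega)
      rw [h6, mul_smul, mul_smul, a, b, el_L h5 (by norm_num), el_L h5 (fT_lt _ (by omega)), h4, (hs _ h3).2]
      exact ⟨rfl, rfl⟩

theorem kWord_spec {j : ℕ} (hj : j < 20) :
    let3 (kWord j) = true ∧ kF j • L 1 = L 1 ∧ kF j • L 249 = L 249 := by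
  have h := fix_check
  simp only [List.all_eq_true, List.mem_range, Bool.and_eq_true, Nat.beq_eq] at h
  obtain ⟨⟨⟨a, b⟩, c⟩, -⟩ := h j hj
  exact ⟨a, by rw [kF, el_L a (by norm_num), b], by rw [kF, el_L a (by norm_num), c]⟩

theorem L_inj {m n : ℕ} (hm : m < 4060) (hn : n < 4060) (h : L m = L n) : m = n := by
  rw [← L_val hm, ← L_val hn, h]

theorem L_one : L 1 = (sPt : Fin 4060) := Fin.ext (subW_check.2.1.symm)

theorem card_stab_sPt : Nat.card (stabilizer (stabs 1) sPt) = 20480 := by
  have := small_transitive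
  have h := MulAction.index_stabilizer_of_transitive (stabs 1) sPt
  have h2 := Subgroup.card_mul_index (stabilizer (stabs 1) sPt)
  rw [h, card_small, card_stabs_one] at h2
  omega

theorem mem_stab_sPt {g : Sg} : g ∈ stabilizer (stabs 1) sPt ↔ g • L 1 = L 1 := by
  rw [mem_stabilizer_iff, L_one]
  exact Subtype.ext_iff

/-- The stored representation of the stabiliser of the base line. -/
noncomputable def repMap (p : Fin 1024 × Fin 20) : stabilizer (stabs 1) sPt :=
  ⟨tI (730 + (p.1 : ℕ)) * kF p.2, mem_stab_sPt.2 (by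
    rw [mul_smul, (kWord_spec p.2.2).2.1, (tI_spec _ (by omega) (by omega)).1])⟩

theorem repMap_bij : Function.Bijective repMap := by
  refine (Nat.bijective_iff_injective_and_card _).2 ⟨?_, by rw [card_stab_sPt]; simp⟩
  rintro ⟨i, j⟩ ⟨i', j'⟩ e
  have e' : tI (730 + (i : ℕ)) * kF j = tI (730 + (i' : ℕ)) * kF j' := congrArg Subtype.val e
  have h := congrArg (fun g : Sg => g • L 249) e'
  simp only [mul_smul, (kWord_spec j.2).2.2, (kWord_spec j'.2).2.2,
    (tI_spec (730 + (i : ℕ)) (by omega) (by omega)).2, (tI_spec (730 + (i' : ℕ)) (by omega) (by omega)).2] at h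
  have hf := L_inj (fT_lt _ (by omega)) (fT_lt _ (by omega)) h
  have ht := tree_check
  simp only [treeCheck, List.all_eq_true, List.mem_range, Bool.and_eq_true, Nat.beq_eq] at ht
  have hi : i = i' := by
    have a := (ht i i.2).1
    rw [hf, (ht i' i'.2).1] at a
    exact Fin.ext (by omega)
  subst hi
  rw [mul_left_cancel_iff] at e'
  have hk := fix_check
  simp only [List.all_eq_true, List.mem_range, Bool.and_eq_true, Bool.or_eq_true, Nat.beq_eq, Bool.not_eq_true'] at hk
  refine Prod.ext rfl (Fin.ext ((hk j j.2).2 j' j'.2 |>.resolve_right ?_))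
  have key : ∀ n < 4060, wl (kWord j) n = wl (kWord j') n := by
    intro n hn
    have h := congrArg (fun g : Sg => g • L n) e'
    simp only [kF, el_L (kWord_spec j.2).1 hn, el_L (kWord_spec j'.2).1 hn] at h
    exact L_inj (wl_lt (kWord_spec j.2).1 hn) (wl_lt (kWord_spec j'.2).1 hn) h
  rw [kPair, kPair, key 427 (by norm_num), key 3 (by norm_num), Nat.beq_refl]
  exact Bool.noConfusion

/-- The stabiliser of the base line. -/
theorem stab_rep {g : Sg} (h : g • L 1 = L 1) : ∃ i, 730 ≤ i ∧ i < 1754 ∧ ∃ j < 20, g = tI i * kF j := by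
  obtain ⟨⟨i, j⟩, e⟩ := repMap_bij.2 ⟨g, mem_stab_sPt.2 h⟩
  exact ⟨730 + i, by omega, by omega, j, j.2, (congrArg Subtype.val e).symm⟩

theorem stab_rep_two {g : Sg} (h : g • L 1 = L 1) (h' : g • L 249 = L 249) : ∃ j < 20, g = kF j := by
  obtain ⟨i, hi, hi', j, hj, rfl⟩ := stab_rep h
  rw [mul_smul, (kWord_spec hj).2.2, (tI_spec i hi hi').2] at h'
  have ht := tree_check
  simp only [treeCheck, List.all_eq_true, List.mem_range, Bool.and_eq_true, Nat.beq_eq] at ht
  have a := (ht (i - 730) (by omega)).1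
  have b := (ht 0 (by norm_num)).1
  rw [show 730 + (i - 730) = i by omega, L_inj (fT_lt _ hi') (by norm_num) h', ← subW_check.2.2, b] at a
  exact ⟨j, hj, by rw [← a, tI_root, one_mul]⟩

theorem kWord_zero : kWord 0 = [] := by decide +kernel

theorem kF_zero : kF 0 = 1 := Subtype.ext (by rw [kF, kWord_zero, el_val rfl]; rfl)

/-- An element fixing four lines is trivial. -/
theorem eq_one_of_four {g : Sg} (h1 : g • L 1 = L 1) (h2 : g • L 249 = L 249) (h3 : g • L 427 = L 427)
    (h4 : g • L 3 = L 3) : g = 1 := by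
  obtain ⟨j, hj, rfl⟩ := stab_rep_two h1 h2
  have hk := fix_check
  simp only [List.all_eq_true, List.mem_range, Bool.and_eq_true, Bool.or_eq_true, Nat.beq_eq, Bool.not_eq_true'] at hk
  have e : j = 0 := by
    refine ((hk j hj).2 0 (by norm_num)).resolve_right ?_
    have key : ∀ n < 4060, kF j • L n = L n → wl (kWord j) n = wl (kWord 0) n := by
      intro n hn e
      rw [kF, el_L (kWord_spec hj).1 hn] at e
      rw [L_inj (wl_lt (kWord_spec hj).1 hn) hn e]
      have z : kF 0 • L n = L n := by rw [kF_zero, one_smul]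
      rw [kF, el_L (kWord_spec (j := 0) (by norm_num)).1 hn] at z
      exact (L_inj (wl_lt (kWord_spec (j := 0) (by norm_num)).1 hn) hn z).symm
    rw [kPair, kPair, key 427 (by norm_num) h3, key 3 (by norm_num) h4, Nat.beq_refl]
    exact Bool.noConfusion
  rw [e, kF_zero]

/-- Two elements agreeing on four lines are equal. -/
theorem ext_four {g h : Sg} (H : ∀ n ∈ [1, 249, 427, 3], g • L n = h • L n) : g = h := by
  rw [← inv_mul_eq_one]
  refine eq_one_of_four ?_ ?_ ?_ ?_ <;> rw [mul_smul, inv_smul_eq_iff]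
  all_goals exact (H _ (by simp)).symm

end CfsgLib.RuRecog
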