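import Cfsg.Agent.Lib.RuRecog.Vectors
import Cfsg.Agent.Lib.RuRecog.Stab
import Cfsg.Agent.Lib.Chev.Twist.TitsAction

set_option autoImplicit false
set_option maxRecDepth 100000
set_option maxHeartbeats 1000000

/-!
²F₄(2) is the point stabiliser of the Rudvalis model.
-/

namespace CfsgLib.RuRecog

open Cfsg.Spor CfsgLib.RuLattice CfsgLib.Chev MulAction

/-- The place of a small line. -/
def plc (q : ℕ) : ℕ := (f4Place >>> (12 * q)) % 4096

/-- The line of a place. -/
def lineOf (i : ℕ) : ℕ := (f4Line >>> (12 * i)) % 4096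

/-- A word in the eight permutations. -/
def gApp : List ℕ → ℕ → ℕ
  | [], i => i
  | k :: l, i => gAt k (gApp l i)

/-- The two numberings agree. -/
def plcStep (q : ℕ) : Bool :=
  !(smallB q) || (Nat.blt (plc q) 1755 && Nat.beq (lineOf (plc q)) q &&
    Nat.beq (plc (wl [0] q)) (gApp f4WordA (plc q)) && Nat.beq (plc (wl [1] q)) (gApp f4WordB (plc q)))

/-- The places are small lines. -/
def lineStep (i : ℕ) : Bool := Nat.blt (lineOf i) 4060 && smallB (lineOf i) && Nat.beq (plc (lineOf i)) i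

theorem plc_check : (List.range 4060).all plcStep = true := by decide +kernel

theorem line_check : (List.range 1755).all lineStep = true := by decide +kernel

theorem words_lt : (f4WordA.all fun k => Nat.blt k 8) = true ∧ (f4WordB.all fun k => Nat.blt k 8) = true := by
  decide +kernel

theorem plc_spec (x : SmallL) : plc (x : Fin 4060) < 1755 ∧ lineOf (plc (x : Fin 4060)) = (x : Fin 4060) ∧
    plc (wl [0] (x : Fin 4060)) = gApp f4WordA (plc (x : Fin 4060)) ∧
    plc (wl [1] (x : Fin 4060)) = gApp f4WordB (plc (x : Fin 4060)) := by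
  have h := plc_check
  simp only [List.all_eq_true, List.mem_range, plcStep, Bool.or_eq_true, Bool.and_eq_true, Bool.not_eq_true',
    Nat.blt_eq, Nat.beq_eq] at h
  rcases h _ (x : Fin 4060).2 with e | ⟨⟨⟨a, b⟩, c⟩, d⟩
  · rw [x.2] at e; exact absurd e (by decide)
  · exact ⟨a, b, c, d⟩

theorem line_spec (i : Fin 1755) : lineOf i < 4060 ∧ smallB (lineOf i) = true ∧ plc (lineOf i) = i := by
  have h := line_check
  simp only [List.all_eq_true, List.mem_range, lineStep, Bool.and_eq_true, Nat.blt_eq, Nat.beq_eq] at h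
  exact ⟨(h i i.2).1.1, (h i i.2).1.2, (h i i.2).2⟩

/-- The numbering of the small lines by the vectors. -/
def place : SmallL ≃ Fin 1755 where
  toFun x := ⟨plc (x : Fin 4060), (plc_spec x).1⟩
  invFun i := ⟨⟨lineOf i, (line_spec i).1⟩, (line_spec i).2.1⟩
  left_inv x := Subtype.ext (Fin.ext (plc_spec x).2.1)
  right_inv i := Fin.ext (line_spec i).2.2

/-- The model's stabiliser on the places. -/
noncomputable def smallPerm : Sg →* Equiv.Perm (Fin 1755) :=
  place.permCongrHom.toMonoidHom.comp (MulAction.toPermHom (stabs 1) SmallL)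

theorem smallPerm_apply (g : Sg) (x : SmallL) : smallPerm g (place x) = place (g • x) := by
  show place (g • place.symm (place x)) = _
  rw [Equiv.symm_apply_apply]

theorem smallPerm_inj : Function.Injective smallPerm := by
  rw [injective_iff_map_eq_one]
  intro g hg
  refine Subtype.ext (small_faithful g.2 fun l hl => ?_)
  have h := smallPerm_apply g ⟨l, hl⟩
  rw [hg] at h
  exact congrArg Subtype.val (place.injective h).symm

theorem word_rho : ∀ {w : List ℕ}, (∀ k ∈ w, k < 8) →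
    ∃ g : GT, ∀ i : Fin 1755, ((rho g i : Fin 1755) : ℕ) = gApp w i
  | [], _ => ⟨1, fun i => by rw [map_one]; rfl⟩
  | k :: l, h => by
    obtain ⟨a, ha⟩ := exists_gen (h k List.mem_cons_self)
    obtain ⟨b, hb⟩ := word_rho fun j hj => h j (List.mem_cons_of_mem _ hj)
    exact ⟨a * b, fun i => by rw [map_mul, Equiv.Perm.mul_apply, ha, hb, gApp]⟩

theorem range_le : smallPerm.range ≤ rho.range := by
  have hw := words_lt
  simp only [List.all_eq_true, Nat.blt_eq] at hw
  have hsA : sA = el [0] := Subtype.ext (by rw [el_val (by decide)]; simp [wA, eA, sA])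
  have hsB : sB = el [1] := Subtype.ext (by rw [el_val (by decide)]; simp [wA, eA, sB])
  rw [MonoidHom.range_eq_map, ← closure_sAB, MonoidHom.map_closure, Subgroup.closure_le]
  rintro _ ⟨g, hg, rfl⟩
  rcases hg with rfl | rfl
  · obtain ⟨t, ht⟩ := word_rho hw.1
    refine ⟨t, Equiv.ext fun i => Fin.ext ?_⟩
    obtain ⟨x, rfl⟩ := place.surjective i
    rw [ht, smallPerm_apply]
    show gApp f4WordA (plc (x : Fin 4060)) = plc ((sA • x : SmallL) : Fin 4060)
    rw [small_coe_smul, hsA, ← (plc_spec x).2.2.1, el_val (by decide), wl_smul (by decide)]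
  · obtain ⟨t, ht⟩ := word_rho hw.2
    refine ⟨t, Equiv.ext fun i => Fin.ext ?_⟩
    obtain ⟨x, rfl⟩ := place.surjective i
    rw [ht, smallPerm_apply]
    show gApp f4WordB (plc (x : Fin 4060)) = plc ((sB • x : SmallL) : Fin 4060)
    rw [small_coe_smul, hsB, ← (plc_spec x).2.2.2, el_val (by decide), wl_smul (by decide)]

theorem card_GT : Nat.card GT = 35942400 := by
  refine (T2F4.card_G T2F4Two.hK).trans ?_
  norm_num

theorem rho_facts : rho.range = smallPerm.range ∧ Function.Injective rho := by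
  haveI : Finite GT := Nat.finite_of_card_ne_zero (by rw [card_GT]; norm_num)
  have hc : Nat.card smallPerm.range = 35942400 := by
    rw [← Nat.card_congr (MonoidHom.ofInjective smallPerm_inj).toEquiv]; exact card_stabs_one
  have h1 : Nat.card rho.range ≤ 35942400 := card_GT ▸ Nat.card_le_card_of_surjective _ rho.rangeRestrict_surjective
  have heq : rho.range = smallPerm.range := (Subgroup.eq_of_le_of_card_ge range_le (by rw [hc]; exact h1)).symm
  refine ⟨heq, ?_⟩
  have hb := (Nat.bijective_iff_surjective_and_card rho.rangeRestrict).2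
    ⟨rho.rangeRestrict_surjective, by rw [card_GT, heq, hc]⟩
  intro a b e
  exact hb.1 (Subtype.ext e)

/-- ²F₄(2) is the stabiliser. -/
noncomputable def isoSg : GT ≃* Sg :=
  (MonoidHom.ofInjective rho_facts.2).trans
    ((MulEquiv.subgroupCongr rho_facts.1).trans (MonoidHom.ofInjective smallPerm_inj).symm)

theorem pCore_ne {X : Type*} [Group X] [Finite X] (hc : Nat.card X = 20480) : Cfsg.pCore 2 X ≠ ⊥ := by
  intro h0
  haveI := Fact.mk Nat.prime_two
  haveI : Fact (Nat.Prime 5) := ⟨by norm_num⟩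
  haveI : Group.IsSolvable X := CfsgLib.CharTheory.isSolvable_of_card_two_primes (a := 12) (b := 1)
    Nat.prime_two (by norm_num : Nat.Prime 5) (by rw [hc]; norm_num)
  have hpp : Cfsg.pPrimeCore 5 X = ⊥ := by
    refine le_bot_iff.mp ((CfsgLib.le_pCore ?_).trans h0.le)
    have h1 := (Cfsg.pPrimeCore 5 X).card_subgroup_dvd_card
    rw [hc, show 20480 = 2 ^ 12 * 5 ^ 1 from rfl] at h1
    obtain ⟨m, -, hm⟩ := (Nat.dvd_prime_pow Nat.prime_two).mp
      ((Nat.Coprime.pow_right 1 (CfsgLib.card_pPrimeCore_coprime (G := X) 5)).dvd_mul_right.mp h1)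
    exact IsPGroup.of_card hm
  have hcen := CfsgLib.centralizer_pCore_le (by norm_num : Nat.Prime 5) hpp
  set O5 := Cfsg.pCore 5 X
  obtain ⟨k, hk⟩ := (CfsgLib.isPGroup_pCore (G := X) 5).exists_card_eq
  have hk1 : Nat.card O5 ∣ 5 := by
    have h1 := O5.card_subgroup_dvd_card
    rw [hk, hc, show 20480 = 4096 * 5 from rfl] at h1
    rw [hk]
    exact (Nat.Coprime.pow_left k (by norm_num : Nat.Coprime 5 4096)).dvd_mul_left.mp h1
  let φ : X →* MulAut ↥O5 := MulAut.conjNormal
  have hker : φ.ker ≤ O5 := by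
    intro w hw
    refine hcen (Subgroup.mem_centralizer_iff.mpr fun x hx => ?_)
    have h1 := congrArg Subtype.val (DFunLike.congr_fun (MonoidHom.mem_ker.mp hw) ⟨x, hx⟩)
    rw [MulAut.conjNormal_apply] at h1
    exact (mul_inv_eq_iff_eq_mul.mp h1).symm
  have h2 := Subgroup.card_mul_index φ.ker
  rw [Subgroup.index_ker, hc] at h2
  have h5 : Nat.card O5 ≤ 5 := Nat.le_of_dvd (by norm_num) hk1
  have h3 : Nat.card φ.ker ≤ 5 := (Subgroup.card_le_of_le hker).trans h5
  have h4 : Nat.card φ.range ≤ 120 := by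
    refine (Nat.card_le_card_of_injective _ φ.range.subtype_injective).trans ?_
    have hi : Function.Injective (fun a : MulAut ↥O5 => (a.toEquiv : Equiv.Perm ↥O5)) :=
      fun a b h => MulEquiv.toEquiv_injective h
    refine (Nat.card_le_card_of_injective _ hi).trans ?_
    rw [Nat.card_perm]
    exact (Nat.factorial_le h5).trans (by decide)
  nlinarith

/-- Two subgroups of index 1755 are conjugate. -/
theorem index1755 (H : Subgroup Sg) (hH : Nat.card H = 20480) :
    ∃ n : Sg, ∀ g : Sg, g ∈ H ↔ (n * g * n⁻¹) • sPt = sPt := by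
  haveI := Fact.mk Nat.prime_two
  haveI : Finite GT := Nat.finite_of_card_ne_zero (by rw [card_GT]; norm_num)
  have key : ∀ X : Subgroup GT, Nat.card X = 20480 →
      ∃ (g : GT) (a : Fin 2), (a : ℕ) = 1 ∧ ∀ x, x ∈ X ↔ g⁻¹ * x * g ∈
        ((T2F4.gen (m := 0) T2F4Two.hK).bnPair (T2F4.wit T2F4Two.hK).ne).parabolic {(T2F4.gen (m := 0) T2F4Two.hK).sn a} := by
    intro X hX
    set f : ↥X →* GL FI (ZMod 2) := GT.subtype.comp X.subtype with hf
    have hfi : Function.Injective f := GT.subtype_injective.comp X.subtype_injective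
    set R := (Cfsg.pCore 2 ↥X).map f
    have hRG : R ≤ Cfsg.Lie.twistedF4 (ZMod 2) (2 ^ 0) := by
      rintro _ ⟨x, -, rfl⟩
      exact (x : GT).2
    have hR2 : IsPGroup 2 ↥R := (CfsgLib.isPGroup_pCore 2).map f
    have hR1 : R ≠ ⊥ := fun e => pCore_ne hX ((Subgroup.map_eq_bot_iff_of_injective _ hfi).mp e)
    obtain ⟨g, a, hP⟩ := T2F4.borelTits T2F4Two.hK hRG hR2 (T2F4.wit T2F4Two.hK).ne hR1
    have hn : ∀ k : ↥X, f k ∈ Subgroup.normalizer (R : Set (GL FI (ZMod 2))) := by
      intro k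
      refine Subgroup.le_normalizer_map f ?_
      exact Subgroup.mem_map_of_mem f (by rw [Subgroup.normalizer_eq_top]; trivial)
    set P := ((T2F4.gen (m := 0) T2F4Two.hK).bnPair (T2F4.wit T2F4Two.hK).ne).parabolic {(T2F4.gen (m := 0) T2F4Two.hK).sn a}
    have hle : ∀ x ∈ X, g⁻¹ * x * g ∈ P := fun x hx => hP x (hn ⟨x, hx⟩)
    set Y := X.map (MulAut.conj g⁻¹).toMonoidHom
    have hY : Y ≤ P := by
      rintro _ ⟨x, hx, rfl⟩
      show g⁻¹ * x * g⁻¹⁻¹ ∈ P
      rw [inv_inv]; exact hle x hx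
    have hYc : Nat.card Y = 20480 := by exact (Subgroup.card_map_of_injective (f := (MulAut.conj g⁻¹).toMonoidHom) (MulAut.conj g⁻¹).injective).trans hX
    have hd := Subgroup.card_dvd_of_le hY
    rw [hYc, T2F4.card_parabolic T2F4Two.hK (T2F4.wit T2F4Two.hK).ne a] at hd
    have ha : (a : ℕ) = 1 := by
      have : (a : ℕ) < 2 := a.isLt
      interval_cases hv : (a : ℕ) <;> simp_all
    refine ⟨g, a, ha, fun x => ⟨hle x, fun hx => ?_⟩⟩
    have hPY : Y = P := by
      refine Subgroup.eq_of_le_of_card_ge hY ?_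
      rw [hYc, T2F4.card_parabolic T2F4Two.hK (T2F4.wit T2F4Two.hK).ne a, ha]
      norm_num
    have hx' : g⁻¹ * x * g ∈ Y := hPY.symm ▸ (hx : g⁻¹ * x * g ∈ P)
    obtain ⟨y, hy, e⟩ := hx'
    have e' : g⁻¹ * y * g = g⁻¹ * x * g := by
      rw [← e]; show _ = g⁻¹ * y * g⁻¹⁻¹; rw [inv_inv]
    rw [mul_left_inj, mul_right_inj] at e'
    exact e' ▸ hy
  set S1 := stabilizer (stabs 1) sPt
  have c1 : Nat.card (H.map isoSg.symm.toMonoidHom) = 20480 :=
    (Subgroup.card_map_of_injective (f := isoSg.symm.toMonoidHom) isoSg.symm.injective).trans hH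
  have c2 : Nat.card (S1.map isoSg.symm.toMonoidHom) = 20480 :=
    (Subgroup.card_map_of_injective (f := isoSg.symm.toMonoidHom) isoSg.symm.injective).trans card_stab_sPt
  obtain ⟨g, a, ha, hg⟩ := key _ c1
  obtain ⟨g', a', ha', hg'⟩ := key _ c2
  obtain rfl : a = a' := Fin.ext (ha.trans ha'.symm)
  refine ⟨isoSg (g' * g⁻¹), fun s => ?_⟩
  obtain ⟨x, rfl⟩ := isoSg.surjective s
  rw [← map_inv, ← map_mul, ← map_mul, ← mem_stabilizer_iff]
  have m1 : isoSg x ∈ H ↔ x ∈ H.map isoSg.symm.toMonoidHom :=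
    ⟨fun h => ⟨_, h, isoSg.symm_apply_apply x⟩, fun ⟨y, hy, e⟩ => by
      rw [← e]; show isoSg (isoSg.symm y) ∈ H; rw [MulEquiv.apply_symm_apply]; exact hy⟩
  have m2 : ∀ z, isoSg z ∈ S1 ↔ z ∈ S1.map isoSg.symm.toMonoidHom := fun z =>
    ⟨fun h => ⟨_, h, isoSg.symm_apply_apply z⟩, fun ⟨y, hy, e⟩ => by
      rw [← e]; show isoSg (isoSg.symm y) ∈ S1; rw [MulEquiv.apply_symm_apply]; exact hy⟩
  refine m1.trans ((hg x).trans (Iff.trans ?_ ((hg' _).symm.trans (m2 _).symm)))
  rw [show g'⁻¹ * (g' * g⁻¹ * x * (g' * g⁻¹)⁻¹) * g' = g⁻¹ * x * g by group]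

end CfsgLib.RuRecog
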