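import Cfsg.Agent.Lib.RuRecog.Count
import Cfsg.Agent.Lib.RuRecog.Iso

set_option autoImplicit false
set_option maxRecDepth 100000
set_option maxHeartbeats 2000000
set_option linter.unusedSectionVars false

/-!
A rank three group on 4060 points with stabiliser ²F₄(2) is the Rudvalis group.
-/

namespace CfsgLib.RuRecog

open Cfsg Cfsg.Spor CfsgLib.RuLattice Finset

variable {Ω : Type*} [Fintype Ω] [DecidableEq Ω] {G : Subgroup (Equiv.Perm Ω)}

theorem card_pair_stab (a y : Ω) :
    Nat.card ↥(MulAction.stabilizer G (a, y)) =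
      Nat.card ↥(MulAction.stabilizer (MulAction.stabilizer G a) y) :=
  Nat.card_congr
    { toFun := fun g => ⟨⟨g.1, congrArg Prod.fst g.2⟩, congrArg Prod.snd g.2⟩
      invFun := fun g => ⟨g.1.1, Prod.ext g.1.2 g.2⟩
      left_inv := fun _ => rfl
      right_inv := fun _ => rfl }

theorem pair_orbit [MulAction.IsPretransitive G Ω] (a y : Ω) :
    (MulAction.orbit G (a, y)).ncard =
      Fintype.card Ω * (MulAction.orbit (MulAction.stabilizer G a) y).ncard := by
  have o1 := (MulAction.stabilizer G (a, y)).card_mul_index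
  have o2 := (MulAction.stabilizer (MulAction.stabilizer G a) y).card_mul_index
  have o3 := (MulAction.stabilizer G a).card_mul_index
  rw [MulAction.index_stabilizer] at o1 o2
  rw [MulAction.index_stabilizer_of_transitive, Nat.card_eq_fintype_card (α := Ω)] at o3
  rw [← o3, ← o2, card_pair_stab, mul_assoc] at o1
  rw [Nat.eq_of_mul_eq_mul_left Nat.card_pos o1]
  ring

theorem card_Sg : Nat.card Sg = 35942400 := card_stabs_one

/-- The stabiliser identified with the stabiliser of the model, the point `b` going to the base line. -/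
theorem identify (a : Ω) (e : MulAction.stabilizer G a ≃* Cfsg.Lie.twistedF4 (ZMod 2) 1) (b : Ω)
    (hb : (MulAction.orbit (MulAction.stabilizer G a) b).ncard = 1755) :
    ∃ ι : MulAction.stabilizer G a ≃* Sg,
      ∀ s : MulAction.stabilizer G a, s • b = b ↔ ι s • L 1 = L 1 := by
  set ι₀ : MulAction.stabilizer G a ≃* Sg :=
    e.trans ((MulEquiv.subgroupCongr (show Cfsg.Lie.twistedF4 (ZMod 2) 1 = GT by rw [GT, pow_zero])).trans isoSg)
  set S := MulAction.stabilizer G a
  set H := (MulAction.stabilizer S b).map ι₀.toMonoidHom with hH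
  have hS : Nat.card S = 35942400 := (Nat.card_congr ι₀.toEquiv).trans card_Sg
  have hHc : Nat.card H = 20480 := by
    have h := (MulAction.stabilizer S b).card_mul_index
    rw [MulAction.index_stabilizer, hb, hS] at h
    rw [hH, Subgroup.card_map_of_injective ι₀.injective]
    omega
  obtain ⟨n, hn⟩ := index1755 H hHc
  refine ⟨ι₀.trans (MulAut.conj n), fun s => ?_⟩
  rw [← MulAction.mem_stabilizer_iff]
  refine (Iff.trans (Subgroup.mem_map_iff_mem (f := ι₀.toMonoidHom) ι₀.injective).symm (hn _)).trans ?_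
  show (n * ι₀ s * n⁻¹) • sPt = sPt ↔ (n * ι₀ s * n⁻¹) • L 1 = L 1
  rw [← MulAction.mem_stabilizer_iff, mem_stab_sPt]

theorem recognise (hΩ : Fintype.card Ω = 4060) [MulAction.IsPretransitive G Ω] (a : Ω)
    (e : MulAction.stabilizer G a ≃* Cfsg.Lie.twistedF4 (ZMod 2) 1) (b c : Ω)
    (hb : (MulAction.orbit (MulAction.stabilizer G a) b).ncard = 1755)
    (hc : (MulAction.orbit (MulAction.stabilizer G a) c).ncard = 2304) : Spor.IsoRu G := by
  classical
  obtain ⟨ι, hstab⟩ := identify a e b hb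
  revert ι hstab
  set S := MulAction.stabilizer G a with hS
  intro ι hstab
  have hsing : MulAction.orbit S a = {a} := by
    ext y
    exact ⟨fun ⟨g, hg⟩ => hg ▸ g.2, fun h => by rw [Set.mem_singleton_iff.mp h]; exact MulAction.mem_orbit_self _⟩
  have horbit : ∀ y, y = a ∨ y ∈ MulAction.orbit S b ∨ y ∈ MulAction.orbit S c := by
    have d1 : Disjoint ({a} : Set Ω) (MulAction.orbit S b) := Set.disjoint_singleton_left.mpr fun h => by
      rw [← MulAction.orbit_eq_iff, hsing] at h
      rw [← h, Set.ncard_singleton] at hb; omega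
    have d2 : Disjoint ({a} : Set Ω) (MulAction.orbit S c) := Set.disjoint_singleton_left.mpr fun h => by
      rw [← MulAction.orbit_eq_iff, hsing] at h
      rw [← h, Set.ncard_singleton] at hc; omega
    have d3 : Disjoint (MulAction.orbit S b) (MulAction.orbit S c) := Set.disjoint_left.mpr fun y h1 h2 => by
      rw [← MulAction.orbit_eq_iff] at h1 h2
      rw [← h1, h2] at hb; omega
    have h : ({a} ∪ MulAction.orbit S b ∪ MulAction.orbit S c : Set Ω) = Set.univ := by
      refine Set.eq_of_subset_of_ncard_le (Set.subset_univ _) ?_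
      rw [Set.ncard_univ, Nat.card_eq_fintype_card, hΩ, Set.ncard_union_eq (d2.union_left d3),
        Set.ncard_union_eq d1, Set.ncard_singleton, hb, hc]
    intro y
    simpa [or_assoc] using Set.eq_univ_iff_forall.mp h y
  have hba : b ≠ a := fun h => by
    rw [h, hsing, Set.ncard_singleton] at hb; omega
  have hself : (b, a) ∈ MulAction.orbit G (a, b) := by
    obtain ⟨g, hg⟩ := MulAction.exists_smul_eq G b a
    have hsw : (MulAction.orbit G (b, a)).ncard = (MulAction.orbit G (a, b)).ncard := by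
      rw [← Set.ncard_image_of_injective (MulAction.orbit G (a, b)) (f := Prod.swap) Prod.swap_injective]
      congr 1
      ext p
      constructor
      · rintro ⟨k, rfl⟩; exact ⟨_, ⟨k, rfl⟩, rfl⟩
      · rintro ⟨_, ⟨k, rfl⟩, rfl⟩; exact ⟨k, rfl⟩
    have hmem : (a, g • a) ∈ MulAction.orbit G (b, a) := ⟨g, Prod.ext hg rfl⟩
    have h1 := pair_orbit (G := G) a (g • a)
    rw [MulAction.orbit_eq_iff.mpr hmem, hsw, pair_orbit, hb, hΩ] at h1
    rcases horbit (g • a) with h | h | h
    · exfalso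
      rw [h, hsing, Set.ncard_singleton] at h1; omega
    · obtain ⟨s, hs⟩ := h
      refine ⟨g⁻¹ * (s : G), ?_⟩
      show ((g⁻¹ * (s : G)) • a, (g⁻¹ * (s : G)) • b) = (b, a)
      rw [mul_smul, mul_smul, show (s : G) • a = a from s.2, show (s : G) • b = g • a from hs, ← hg,
        inv_smul_smul, inv_smul_smul]
    · exfalso
      rw [MulAction.orbit_eq_iff.mpr h, hc] at h1; omega
  let R : Ω → Ω → Prop := fun x y => ∃ g : G, g • a = x ∧ g • b = y
  have hsymm : ∀ x y, R x y → R y x := fun x y ⟨g, hx, hy⟩ => by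
    obtain ⟨s, hs⟩ := hself
    have hs' : s • a = b ∧ s • b = a := ⟨congrArg Prod.fst hs, congrArg Prod.snd hs⟩
    exact ⟨g * s, by rw [mul_smul, hs'.1, hy], by rw [mul_smul, hs'.2, hx]⟩
  have hirr : ∀ x, ¬ R x x := fun x ⟨g, hx, hy⟩ => hba (MulAction.injective g (hy.trans hx.symm))
  have hmap : ∀ (g : G) (x y : Ω), R x y → R (g • x) (g • y) := fun g x y ⟨h, hx, hy⟩ =>
    ⟨g * h, by rw [mul_smul, hx], by rw [mul_smul, hy]⟩
  have hiff : ∀ (g : G) (x y : Ω), R (g • x) (g • y) ↔ R x y := fun g x y =>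
    ⟨fun h => by simpa using hmap g⁻¹ _ _ h, hmap g x y⟩
  have hNa : ∀ y, R a y ↔ y ∈ MulAction.orbit S b := fun y =>
    ⟨fun ⟨g, hx, hy⟩ => ⟨⟨g, hx⟩, hy⟩, fun ⟨g, hg⟩ => ⟨g.1, g.2, hg⟩⟩
  have hfarO : ∀ y, (y ≠ a ∧ ¬ R a y) ↔ y ∈ MulAction.orbit S c := by
    intro y
    constructor
    · rintro ⟨h1, h2⟩
      rcases horbit y with h | h | h
      exacts [absurd h h1, absurd ((hNa y).mpr h) h2, h]
    · intro h
      rw [← MulAction.orbit_eq_iff] at h
      refine ⟨fun e => ?_, fun e => ?_⟩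
      · rw [e, hsing] at h; rw [← h, Set.ncard_singleton] at hc; omega
      · rw [hNa, ← MulAction.orbit_eq_iff, h] at e
        rw [e, hb] at hc; omega
  have hdeg : ∀ x, (Finset.univ.filter (R x)).card = 1755 := by
    intro x
    obtain ⟨g, rfl⟩ := MulAction.exists_smul_eq G a x
    rw [← Set.ncard_coe_finset, ← hb]
    have : (↑(Finset.univ.filter (R (g • a))) : Set Ω) = (g • ·) '' MulAction.orbit S b := by
      ext y
      simp only [Finset.coe_filter, Finset.mem_univ, true_and, Set.mem_ofPred_eq, Set.mem_image, ← hNa]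
      exact ⟨fun h => ⟨g⁻¹ • y, (hiff g _ _).mp (by rwa [smul_inv_smul]), smul_inv_smul g y⟩,
        fun ⟨z, hz, e⟩ => e ▸ hmap g _ _ hz⟩
    rw [this, Set.ncard_image_of_injective _ (MulAction.injective g)]
  let cm : Ω → Ω → ℕ := fun x y => (Finset.univ.filter fun z => R x z ∧ R y z).card
  have hcm : ∀ (g : G) (x y : Ω), cm (g • x) (g • y) = cm x y := by
    intro g x y
    refine Finset.card_nbij' (fun z => g⁻¹ • z) (fun z => g • z) ?_ ?_ ?_ ?_
    · intro z hz
      simp only [Finset.coe_filter, Finset.mem_univ, true_and, Set.mem_ofPred_eq] at hz ⊢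
      exact ⟨by simpa using hmap g⁻¹ _ _ hz.1, by simpa using hmap g⁻¹ _ _ hz.2⟩
    · intro z hz
      simp only [Finset.coe_filter, Finset.mem_univ, true_and, Set.mem_ofPred_eq] at hz ⊢
      exact ⟨hmap g _ _ hz.1, hmap g _ _ hz.2⟩
    · exact fun z _ => smul_inv_smul g z
    · exact fun z _ => inv_smul_smul g z
  set l := cm a b with hl
  set m := cm a c with hm
  have hadj : ∀ x y, R x y → cm x y = l := fun x y ⟨g, hx, hy⟩ => by rw [← hx, ← hy, hcm]
  have hnadj : ∀ x y, x ≠ y → ¬ R x y → cm x y = m := by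
    intro x y hne hna
    obtain ⟨g, rfl⟩ := MulAction.exists_smul_eq G a x
    rw [← smul_inv_smul g y, hcm]
    rcases horbit (g⁻¹ • y) with h | h | h
    · exact absurd (by rw [← h, smul_inv_smul]) hne
    · exact absurd (by rw [← smul_inv_smul g y]; exact hmap g _ _ ((hNa _).mpr h)) hna
    · obtain ⟨s, hs⟩ := h
      rw [← hs]
      have := hcm s.1 a c
      rwa [show (s.1 : G) • a = a from s.2] at this
  have hfarc : (Finset.univ.filter fun y => y ≠ a ∧ ¬ R a y).card = 2304 := by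
    have : (Finset.univ.filter fun y => y ≠ a ∧ ¬ R a y) =
        Finset.univ \ insert a (Finset.univ.filter (R a)) := by
      ext y; simp
    rw [this, Finset.card_univ_sdiff, hΩ, Finset.card_insert_of_notMem (by simp [hirr a]), hdeg]
  have hcount : 1755 * 1755 = 1755 + 1755 * l + 2304 * m := by
    have h0 : ∑ z ∈ Finset.univ.filter (R a), (Finset.univ.filter (R z)).card = ∑ y, cm a y := by
      simp only [cm, Finset.card_filter, ite_and]
      rw [Finset.sum_comm]
      refine Finset.sum_congr rfl fun y _ => ?_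
      rw [Finset.sum_filter]
      refine Finset.sum_congr rfl fun z _ => ?_
      have e : R y z ↔ R z y := ⟨hsymm y z, hsymm z y⟩
      by_cases h1 : R a z <;> by_cases h2 : R z y <;> simp_all [R]
    rw [Finset.sum_congr rfl (fun z _ => hdeg z), Finset.sum_const, hdeg a, smul_eq_mul] at h0
    have e1 : ∀ y, cm a y = (if y = a then 1755 else 0) + (if R a y then l else 0) +
        (if y ≠ a ∧ ¬ R a y then m else 0) := by
      intro y
      by_cases h1 : y = a
      · subst h1
        simp [cm, hdeg, hirr]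
      · by_cases h2 : R a y
        · simp [h1, h2, hadj a y h2]
        · simp [h1, h2, hnadj a y (Ne.symm h1) h2]
    rw [Finset.sum_congr rfl fun y _ => e1 y, Finset.sum_add_distrib, Finset.sum_add_distrib, Finset.sum_ite_eq',
      ← Finset.sum_filter, ← Finset.sum_filter, Finset.sum_const, Finset.sum_const, hdeg, hfarc] at h0
    simpa using h0
  -- the near points
  have hSa : ∀ (s : S), s • a = a := fun s => s.2
  have hfix : ∀ (s : S) (x y : Ω), R (s • x) (s • y) ↔ R x y := fun s x y => hiff s.1 x y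
  have hRa : ∀ (s : S) (x : Ω), R a (s • x) ↔ R a x := fun s x => by
    conv_lhs => rw [← hSa s]
    exact hfix s a x
  let φ : Ω → Fin 4060 := fun x => if hx : ∃ s : S, s • b = x then ι hx.choose • L 1 else L 0
  have hφ : ∀ s : S, φ (s • b) = ι s • L 1 := fun s => by
    have hx : ∃ t : S, t • b = s • b := ⟨s, rfl⟩
    simp only [φ, dif_pos hx]
    have h1 : (s⁻¹ * hx.choose) • b = b := by rw [mul_smul, hx.choose_spec, inv_smul_smul]
    rwa [hstab, map_mul, map_inv, mul_smul, inv_smul_eq_iff] at h1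
  have hlift : ∀ x, R a x → ∃ s : S, s • b = x := fun x hx => (hNa x).mp hx
  have h1s : smallB (L 1 : Fin 4060) = true := by rw [L_one]; exact sPt.2
  have hφsm : ∀ x, R a x → smallB (φ x : Fin 4060) = true := fun x hx => by
    obtain ⟨s, rfl⟩ := hlift x hx; rw [hφ, small_Sg, h1s]
  have hφeq : ∀ (s : S) (x : Ω), R a x → φ (s • x) = ι s • φ x := fun s x hx => by
    obtain ⟨t, rfl⟩ := hlift x hx
    rw [← mul_smul, hφ, hφ, map_mul, mul_smul]
  have hinj : ∀ x y, R a x → R a y → φ x = φ y → x = y := fun x y hx hy h => by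
    obtain ⟨s, rfl⟩ := hlift x hx
    obtain ⟨t, rfl⟩ := hlift y hy
    rw [hφ, hφ] at h
    have h1 : ι (t⁻¹ * s) • L 1 = L 1 := by rw [map_mul, map_inv, mul_smul, h, inv_smul_smul]
    rwa [← hstab, mul_smul, inv_smul_eq_iff] at h1
  have hsurj : ∀ q : Fin 4060, smallB q = true → ∃ x, R a x ∧ φ x = q := fun q hq => by
    have := small_transitive
    obtain ⟨g, hg⟩ := MulAction.exists_smul_eq (stabs 1) sPt (⟨q, hq⟩ : SmallL)
    refine ⟨ι.symm g • b, (hNa _).mpr ⟨_, rfl⟩, ?_⟩
    rw [hφ, MulEquiv.apply_symm_apply, L_one]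
    exact congrArg Subtype.val hg
  have hkb : φ b = L 1 := by
    have := hφ 1
    rwa [one_smul, map_one, one_smul] at this
  have hab : R a b := ⟨1, one_smul _ _, one_smul _ _⟩
  have hφne : ∀ x, R a x → x ≠ b → φ x ≠ L 1 := fun x hx hne h => hne (hinj x b hx hab (h.trans hkb.symm))
  -- the neighbours of b among those of a
  set T := (Finset.univ.filter fun z => R a z ∧ R b z).image φ with hT
  have hTc : T.card = l := Finset.card_image_of_injOn fun x hx y hy h =>
    hinj x y (Finset.mem_filter.mp hx).2.1 (Finset.mem_filter.mp hy).2.1 h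
  obtain ⟨K, hKsum, hKiff⟩ := near_set (T := T) (fun q hq => by
      obtain ⟨x, hx, rfl⟩ := Finset.mem_image.mp hq
      simp only [Finset.mem_filter, Finset.mem_univ, true_and] at hx
      exact ⟨hφsm x hx.1, hφne x hx.1 fun h => hirr b (h ▸ hx.2)⟩)
    (fun g hg q hq => by
      obtain ⟨x, hx, rfl⟩ := Finset.mem_image.mp hq
      simp only [Finset.mem_filter, Finset.mem_univ, true_and] at hx
      have hsb : ι.symm g • b = b := (hstab _).mpr (by rw [MulEquiv.apply_symm_apply]; exact hg)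
      refine Finset.mem_image.mpr ⟨ι.symm g • x, Finset.mem_filter.mpr ⟨Finset.mem_univ _, (hRa _ x).mpr hx.1, ?_⟩, ?_⟩
      · rw [← hsb]; exact (hfix _ b x).mpr hx.2
      · rw [hφeq _ x hx.1, MulEquiv.apply_symm_apply])
  rw [hTc] at hKsum
  have hl1755 : l ≤ 1754 := by omega
  obtain ⟨hK, hm780⟩ : K = {0, 1, 2} ∧ m = 780 := by
    rcases near_sums K l hKsum (by omega) with h | ⟨h, hK⟩
    · exfalso
      have hm0 : m = 0 := by rw [h] at hcount; omega
      let C : Ω → Finset Ω := fun x => insert x (Finset.univ.filter (R x))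
      have hCcard : ∀ x, (C x).card = 1756 := fun x => by
        rw [Finset.card_insert_of_notMem (by simp [hirr x]), hdeg]
      have hno : ∀ x y z, R x z → R y z → x = y ∨ R x y := fun x y z h1 h2 => by
        by_contra hh
        push Not at hh
        have := hnadj x y hh.1 hh.2
        rw [hm0, Finset.card_eq_zero] at this
        exact Finset.notMem_empty z (this ▸ Finset.mem_filter.mpr ⟨Finset.mem_univ z, h1, h2⟩)
      have hclosed : ∀ x y, y ∈ C x → C y = C x := fun x y hy => by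
        refine Finset.eq_of_subset_of_card_le (fun z hz => ?_) (by rw [hCcard, hCcard])
        simp only [C, Finset.mem_insert, Finset.mem_filter, Finset.mem_univ, true_and] at hy hz ⊢
        rcases hy with rfl | hy
        · exact hz
        rcases hz with rfl | hz
        · exact Or.inr hy
        rcases hno z x y (hsymm y z hz) hy with rfl | h
        · exact Or.inl rfl
        · exact Or.inr (hsymm z x h)
      have hsum := Finset.card_eq_sum_card_image C (Finset.univ : Finset Ω)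
      have hfib : ∀ D ∈ Finset.univ.image C, (Finset.univ.filter fun x => C x = D).card = 1756 := fun D hD => by
        obtain ⟨x, -, rfl⟩ := Finset.mem_image.mp hD
        rw [← hCcard x]
        congr 1
        ext y
        simp only [Finset.mem_filter, Finset.mem_univ, true_and]
        exact ⟨fun h => h ▸ Finset.mem_insert_self _ _, hclosed x y⟩
      rw [Finset.card_univ, hΩ, Finset.sum_congr rfl hfib, Finset.sum_const, smul_eq_mul] at hsum
      omega
    · exact ⟨hK, by omega⟩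
  have hiffN : ∀ x y, R a x → R a y → (R x y ↔ adj (φ x) (φ y) = true) := fun x y hx hy => by
    obtain ⟨s, rfl⟩ := hlift x hx
    obtain ⟨y', rfl⟩ : ∃ y', s • y' = y := ⟨s⁻¹ • y, smul_inv_smul s y⟩
    rw [hRa] at hy
    rw [hfix, hφ, hφeq s y' hy, adj_Sg]
    by_cases hyb : y' = b
    · rw [hyb, hkb, adj_self]
      exact iff_of_false (hirr b) Bool.false_ne_true
    · have hne : (⟨φ y', hφsm y' hy⟩ : SmallL) ≠ sPt := fun h => hφne y' hy hyb (by
        rw [L_one]; exact congrArg Subtype.val h)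
      have h1 := cls_adj hne
      have h2 := hKiff _ hne
      rw [hK] at h2
      rw [h1, show (sCls ⟨φ y', hφsm y' hy⟩ ≠ 3) ↔ sCls ⟨φ y', hφsm y' hy⟩ ∈ ({0, 1, 2} : Finset (Fin 4)) from
        (by decide : ∀ k : Fin 4, k ≠ 3 ↔ k ∈ ({0, 1, 2} : Finset (Fin 4))) _, ← h2]
      constructor
      · exact fun hr => Finset.mem_image.mpr ⟨y', by simp [hy, hr], rfl⟩
      · intro hmem
        obtain ⟨z, hz, ez⟩ := Finset.mem_image.mp hmem
        simp only [Finset.mem_filter, Finset.mem_univ, true_and] at hz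
        exact hinj z y' hz.1 hy ez ▸ hz.2
  -- the traces of the far points
  let TrA : Ω → Finset (Fin 4060) := fun y => (Finset.univ.filter fun z => R a z ∧ R y z).image φ
  have hTrmem : ∀ y x, R a x → (φ x ∈ TrA y ↔ R y x) := fun y x hx => by
    constructor
    · intro h
      obtain ⟨z, hz, e⟩ := Finset.mem_image.mp h
      simp only [Finset.mem_filter, Finset.mem_univ, true_and] at hz
      exact hinj z x hz.1 hx e ▸ hz.2
    · exact fun h => Finset.mem_image.mpr ⟨x, by simp [hx, h], rfl⟩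
  have hcS : Nat.card S = 35942400 := (Nat.card_congr ι.toEquiv).trans card_Sg
  have hTrd : ∀ y, y ≠ a → ¬ R a y → ∃ d : Fin 4060, smallB d = false ∧ d ≠ 0 ∧ TrA y = Tr d := by
    intro y h1 h2
    refine trace_of_card (M := (MulAction.stabilizer S y).map ι.toMonoidHom) ?_ ?_ ?_ ?_
    · have h := (MulAction.stabilizer S y).card_mul_index
      rw [MulAction.index_stabilizer, MulAction.orbit_eq_iff.mpr ((hfarO y).mp ⟨h1, h2⟩), hc, hcS] at h
      rw [Subgroup.card_map_of_injective ι.injective]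
      omega
    · intro q hq
      obtain ⟨x, hx, rfl⟩ := Finset.mem_image.mp hq
      exact hφsm x (Finset.mem_filter.mp hx).2.1
    · rw [← hm780, ← hnadj a y (Ne.symm h1) h2]
      exact Finset.card_image_of_injOn fun p hp q hq h =>
        hinj p q (Finset.mem_filter.mp hp).2.1 (Finset.mem_filter.mp hq).2.1 h
    · rintro _ ⟨s, hs, rfl⟩ q hq
      obtain ⟨x, hx, rfl⟩ := Finset.mem_image.mp hq
      simp only [Finset.mem_filter, Finset.mem_univ, true_and] at hx
      refine Finset.mem_image.mpr ⟨s • x, Finset.mem_filter.mpr ⟨Finset.mem_univ _, (hRa s x).mpr hx.1, ?_⟩, ?_⟩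
      · have hs' : s • y = y := hs
        rw [← hs']; exact (hfix s y x).mpr hx.2
      · exact hφeq s x hx.1
  choose! χ hχ1 hχ2 hχ3 using hTrd
  have hfarS : ∀ (s : S) y, (y ≠ a ∧ ¬ R a y) → (s • y ≠ a ∧ ¬ R a (s • y)) := fun s y h =>
    ⟨fun e => h.1 (MulAction.injective s (e.trans (hSa s).symm)), fun e => h.2 ((hRa s y).mp e)⟩
  have hχeq : ∀ (s : S) y, (y ≠ a ∧ ¬ R a y) → χ (s • y) = ι s • χ y := by
    intro s y hy
    have hy' := hfarS s y hy
    have h0 : ι s • χ y ≠ 0 := fun e => hχ2 y hy.1 hy.2 (MulAction.injective (ι s) (e.trans (fix0 _).symm))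
    refine Tr_inj (hχ1 _ hy'.1 hy'.2) (hχ2 _ hy'.1 hy'.2) (by rw [small_Sg, hχ1 y hy.1 hy.2]) h0 ?_
    rw [← hχ3 _ hy'.1 hy'.2]
    ext q
    constructor
    · intro hq
      obtain ⟨x, hx, rfl⟩ := Finset.mem_image.mp hq
      simp only [Finset.mem_filter, Finset.mem_univ, true_and] at hx
      obtain ⟨x', rfl⟩ : ∃ x', s • x' = x := ⟨s⁻¹ • x, smul_inv_smul s x⟩
      rw [hRa, hfix] at hx
      rw [hφeq s x' hx.1, Tr_smul, ← hχ3 y hy.1 hy.2, hTrmem y x' hx.1]
      exact hx.2
    · intro hq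
      obtain ⟨q', rfl⟩ : ∃ q', ι s • q' = q := ⟨(ι s)⁻¹ • q, smul_inv_smul _ q⟩
      rw [Tr_smul, ← hχ3 y hy.1 hy.2] at hq
      obtain ⟨x, hx, rfl⟩ := Finset.mem_image.mp hq
      simp only [Finset.mem_filter, Finset.mem_univ, true_and] at hx
      rw [← hφeq s x hx.1, hTrmem _ _ ((hRa s x).mpr hx.1), hfix]
      exact hx.2
  have hcfar : c ≠ a ∧ ¬ R a c := (hfarO c).mpr (MulAction.mem_orbit_self c)
  let θ : Ω → Fin 4060 := fun y => if y = a then L 0 else if R a y then φ y else χ y
  have hθa : θ a = L 0 := by simp [θ]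
  have hθn : ∀ y, R a y → θ y = φ y := fun y hy => by
    have hne : y ≠ a := fun h => hirr a (h ▸ hy)
    simp [θ, hne, hy]
  have hθf : ∀ y, (y ≠ a ∧ ¬ R a y) → θ y = χ y := fun y hy => by simp [θ, hy.1, hy.2]
  have hcase : ∀ x, x = a ∨ R a x ∨ (x ≠ a ∧ ¬ R a x) := fun x => by tauto
  have hsm0 : smallB (L 0 : Fin 4060) = false := small_zero
  have hθeq : ∀ (s : S) x, θ (s • x) = ι s • θ x := by
    intro s x
    rcases hcase x with rfl | h | h
    · rw [hSa, hθa]; exact (fix0 _).symm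
    · rw [hθn _ ((hRa s x).mpr h), hθn x h, hφeq s x h]
    · rw [hθf _ (hfarS s x h), hθf x h, hχeq s x h]
  have hθsurj : Function.Surjective θ := by
    intro d
    rcases hd : smallB d with _ | _
    · by_cases hd0 : d = L 0
      · exact ⟨a, hθa.trans hd0.symm⟩
      · obtain ⟨g, hg, e⟩ := same_suborbit (hχ2 c hcfar.1 hcfar.2) hd0 (by rw [hχ1 c hcfar.1 hcfar.2, hd])
        refine ⟨ι.symm ⟨g, hg⟩ • c, ?_⟩
        rw [hθeq, hθf c hcfar, MulEquiv.apply_symm_apply]
        exact e
    · obtain ⟨x, hx, e⟩ := hsurj d hd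
      exact ⟨x, (hθn x hx).trans e⟩
  have hθbij : Function.Bijective θ := (Fintype.bijective_iff_surjective_and_card _).mpr
    ⟨hθsurj, by rw [hΩ, Fintype.card_fin]⟩
  let Θ : Ω ≃ Fin 4060 := Equiv.ofBijective θ hθbij
  have hθsm : ∀ x, smallB (θ x : Fin 4060) = true ↔ R a x := by
    intro x
    rcases hcase x with rfl | h | h
    · rw [hθa, hsm0]; exact iff_of_false Bool.false_ne_true (hirr _)
    · rw [hθn x h]; exact iff_of_true (hφsm x h) h
    · rw [hθf x h, hχ1 x h.1 h.2]; exact iff_of_false Bool.false_ne_true h.2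
  have hA : ∀ y, R a y ↔ adj (L 0) (θ y) = true := fun y => by
    rw [show L 0 = 0 from rfl, adj_zero, hθsm]
  have hNF : ∀ x y, R a x → (y ≠ a ∧ ¬ R a y) → (R y x ↔ adj (θ y) (θ x) = true) := by
    intro x y hx hy
    rw [hθn x hx, hθf y hy, ← hTrmem y x hx, hχ3 y hy.1 hy.2, mem_Tr]
    exact and_iff_right (hφsm x hx)
  -- a far point over the base line
  obtain ⟨y₀, hy₀⟩ := hθsurj (L 1475)
  have h1475 : smallB (L 1475 : Fin 4060) = false := by rw [L_val (by norm_num)]; exact zFix_facts.2.2.1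
  have hy₀f : y₀ ≠ a ∧ ¬ R a y₀ := by
    refine ⟨fun e => ?_, fun e => ?_⟩
    · rw [e, hθa] at hy₀
      have := L_inj (by norm_num) (by norm_num) hy₀
      omega
    · rw [← hθsm, hy₀, h1475] at e; exact Bool.false_ne_true e
  set F := (Finset.univ.filter fun y => R y₀ y ∧ y ≠ a ∧ ¬ R a y).image θ with hF
  have hFc : F.card = 975 := by
    rw [hF, Finset.card_image_of_injective _ hθbij.1]
    have h1 : (Finset.univ.filter fun y => R y₀ y ∧ y ≠ a ∧ ¬ R a y) =
        Finset.univ.filter (R y₀) \ Finset.univ.filter (fun z => R a z ∧ R y₀ z) := by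
      ext y
      simp only [Finset.mem_filter, Finset.mem_univ, true_and, Finset.mem_sdiff]
      constructor
      · exact fun h => ⟨h.1, fun h' => h.2.2 h'.1⟩
      · exact fun h => ⟨h.1, fun e => hy₀f.2 (hsymm _ _ (e ▸ h.1)), fun h' => h.2 ⟨h', h.1⟩⟩
    rw [h1, Finset.card_sdiff_of_subset (fun y hy => by
      simp only [Finset.mem_filter, Finset.mem_univ, true_and] at hy ⊢; exact hy.2), hdeg]
    have h2 := hnadj a y₀ hy₀f.1.symm hy₀f.2
    rw [hm780] at h2
    simp only [cm] at h2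
    rw [h2]
  have hFF0 : ∀ u, (u ≠ a ∧ ¬ R a u) → (R y₀ u ↔ adj (L 1475) (θ u) = true) := by
    intro u hu
    rw [← far_set (F := F) ?_ ?_ hFc (by rw [hθf u hu, hχ1 u hu.1 hu.2]) (by rw [hθf u hu]; exact hχ2 u hu.1 hu.2)]
    · constructor
      · exact fun h => Finset.mem_image.mpr ⟨u, by simp [h, hu.1, hu.2], rfl⟩
      · intro h
        obtain ⟨z, hz, e⟩ := Finset.mem_image.mp h
        simp only [Finset.mem_filter, Finset.mem_univ, true_and] at hz
        exact hθbij.1 e ▸ hz.1
    · intro q hq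
      obtain ⟨z, hz, rfl⟩ := Finset.mem_image.mp hq
      simp only [Finset.mem_filter, Finset.mem_univ, true_and] at hz
      refine ⟨by rw [hθf z hz.2, hχ1 z hz.2.1 hz.2.2], by rw [hθf z hz.2]; exact hχ2 z hz.2.1 hz.2.2, fun e => ?_⟩
      exact hirr y₀ (hθbij.1 (e.trans hy₀.symm) ▸ hz.1)
    · intro g hg q hq
      obtain ⟨z, hz, rfl⟩ := Finset.mem_image.mp hq
      simp only [Finset.mem_filter, Finset.mem_univ, true_and] at hz
      have hsy : ι.symm g • y₀ = y₀ := hθbij.1 (by rw [hθeq, hy₀, MulEquiv.apply_symm_apply, hg])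
      refine Finset.mem_image.mpr ⟨ι.symm g • z, ?_, by rw [hθeq, MulEquiv.apply_symm_apply]⟩
      simp only [Finset.mem_filter, Finset.mem_univ, true_and]
      exact ⟨hsy ▸ (hfix _ y₀ z).mpr hz.1, hfarS _ z hz.2⟩
  have hFF : ∀ x y, (x ≠ a ∧ ¬ R a x) → (y ≠ a ∧ ¬ R a y) → (R x y ↔ adj (θ x) (θ y) = true) := by
    intro x y hx hy
    obtain ⟨s, rfl⟩ : x ∈ MulAction.orbit S y₀ := by
      rw [MulAction.orbit_eq_iff.mpr ((hfarO y₀).mp hy₀f)]; exact (hfarO x).mp hx
    obtain ⟨y', rfl⟩ : ∃ y', s • y' = y := ⟨s⁻¹ • y, smul_inv_smul s y⟩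
    have hy' : y' ≠ a ∧ ¬ R a y' := by
      have := hfarS s⁻¹ _ hy; rwa [inv_smul_smul] at this
    show R (s • y₀) (s • y') ↔ adj (θ (s • y₀)) (θ (s • y')) = true
    rw [hfix, hθeq, hθeq, adj_Sg, hy₀]
    exact hFF0 y' hy'
  have hRrel : ∀ x y, R x y ↔ adj (θ x) (θ y) = true := by
    have hsw : ∀ x y, (R y x ↔ adj (θ y) (θ x) = true) → (R x y ↔ adj (θ x) (θ y) = true) := fun x y h => by
      rw [adj_symm]; exact ⟨fun e => h.mp (hsymm _ _ e), fun e => hsymm _ _ (h.mpr e)⟩
    intro x y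
    rcases hcase x with rfl | hx | hx
    · rw [hθa]; exact hA y
    · rcases hcase y with rfl | hy | hy
      · refine hsw _ _ ?_
        rw [hθa]; exact hA x
      · rw [hθn x hx, hθn y hy]; exact hiffN x y hx hy
      · exact hsw _ _ (hNF x y hx hy)
    · rcases hcase y with rfl | hy | hy
      · refine hsw _ _ ?_
        rw [hθa]; exact hA x
      · exact hNF y x hy hx
      · exact hFF x y hx hy
  -- the group inside the model
  let Ψ : G →* Equiv.Perm (Fin 4060) := Θ.permCongrHom.toMonoidHom.comp G.subtype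
  have hΨ : ∀ (g : G) (x : Ω), Ψ g (θ x) = θ (g • x) := fun g x => by
    show Θ ((g : Equiv.Perm Ω) (Θ.symm (θ x))) = _
    rw [show θ x = Θ x from rfl, Θ.symm_apply_apply]
    rfl
  have hΨaut : ∀ g : G, IsAut (Ψ g) := fun g p q => by
    obtain ⟨x, rfl⟩ := hθsurj p
    obtain ⟨y, rfl⟩ := hθsurj q
    rw [hΨ, hΨ, Bool.eq_iff_iff, ← hRrel, ← hRrel, hiff]
  have hΨS : ∀ s : S, Ψ (s : G) = perm (ι s) := fun s => by
    refine Equiv.ext fun p => ?_
    obtain ⟨x, rfl⟩ := hθsurj p
    rw [hΨ, perm_apply]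
    exact hθeq s x
  have hθb : θ b = L 1 := (hθn b hab).trans hkb
  obtain ⟨g₀, hg₀⟩ := hself
  have hga : g₀ • a = b := congrArg Prod.fst hg₀
  have hgb : g₀ • b = a := congrArg Prod.snd hg₀
  have hσ : Ψ g₀ ∈ RuH := by
    refine mem_RuH_of_swap (hΨaut g₀) (by rw [← hθa, hΨ, hga, hθb]) (by rw [← hθb, hΨ, hgb, hθa]) fun g hg => ?_
    set s := ι.symm g with hs
    have hsb : s • b = b := (hstab s).mpr (by rw [hs, MulEquiv.apply_symm_apply]; exact hg)
    have hsb' : (s : G) • b = b := hsb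
    have hsa' : (s : G) • a = a := s.2
    have h1 : g₀⁻¹ • b = a := by rw [inv_smul_eq_iff, hga]
    have h2 : g₀⁻¹ • a = b := by rw [inv_smul_eq_iff, hgb]
    let t : S := ⟨g₀ * (s : G) * g₀⁻¹, by
      show (g₀ * (s : G) * g₀⁻¹) • a = a
      rw [mul_smul, mul_smul, h2, hsb', hgb]⟩
    refine ⟨ι t, (hstab t).mp ?_, fun p => ?_⟩
    · show (g₀ * (s : G) * g₀⁻¹) • b = b
      rw [mul_smul, mul_smul, h1, hsa', hga]
    · have e : Ψ g₀ * Ψ (s : G) = Ψ (t : G) * Ψ g₀ := by
        rw [← map_mul, ← map_mul]; congr 1; show g₀ * (s : G) = g₀ * (s : G) * g₀⁻¹ * g₀; group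
      have e2 := congrArg (fun π : Equiv.Perm (Fin 4060) => π p) e
      simp only [Equiv.Perm.mul_apply, hΨS, perm_apply] at e2
      rw [hs, MulEquiv.apply_symm_apply] at e2
      exact e2
  set H := RuH.comap Ψ
  have hSH : ∀ s : S, (s : G) ∈ H := fun s => by
    show Ψ (s : G) ∈ RuH
    rw [hΨS]; exact perm_mem_RuH _
  have hreach : ∀ x, ∃ h ∈ H, h • a = x := by
    have hnear : ∀ x, R a x → ∃ h ∈ H, h • a = x := fun x hx => by
      obtain ⟨s, rfl⟩ := hlift x hx
      exact ⟨(s : G) * g₀, H.mul_mem (hSH s) hσ, by rw [mul_smul, hga]; rfl⟩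
    obtain ⟨y, hy, hby⟩ : ∃ y, (y ≠ a ∧ ¬ R a y) ∧ R b y := by
      obtain ⟨q, hq⟩ : (TrA c).Nonempty := by
        rw [hχ3 c hcfar.1 hcfar.2, ← Finset.card_pos, card_Tr (hχ1 c hcfar.1 hcfar.2) (hχ2 c hcfar.1 hcfar.2)]
        norm_num
      obtain ⟨x, hx, -⟩ := Finset.mem_image.mp hq
      simp only [Finset.mem_filter, Finset.mem_univ, true_and] at hx
      obtain ⟨s, rfl⟩ := hlift x hx.1
      refine ⟨s⁻¹ • c, hfarS _ c hcfar, ?_⟩
      rw [← hfix s, smul_inv_smul]
      exact hsymm _ _ hx.2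
    have hy2 : ∃ h ∈ H, h • a = y := by
      obtain ⟨h, hh, e⟩ := hnear (g₀⁻¹ • y) (by rwa [← hiff g₀, hga, smul_inv_smul])
      exact ⟨g₀ * h, H.mul_mem hσ hh, by rw [mul_smul, e, smul_inv_smul]⟩
    intro x
    rcases hcase x with rfl | hx | hx
    · exact ⟨1, H.one_mem, one_smul _ _⟩
    · exact hnear x hx
    · obtain ⟨s, rfl⟩ : x ∈ MulAction.orbit S y := by
        rw [MulAction.orbit_eq_iff.mpr ((hfarO y).mp hy)]; exact (hfarO x).mp hx
      obtain ⟨h, hh, e⟩ := hy2
      exact ⟨(s : G) * h, H.mul_mem (hSH s) hh, by rw [mul_smul, e]; rfl⟩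
  have hle : Ψ.range ≤ RuH := by
    rintro _ ⟨g, rfl⟩
    obtain ⟨h, hh, e⟩ := hreach (g • a)
    have hmem : h⁻¹ * g ∈ S := by
      show (h⁻¹ * g) • a = a
      rw [mul_smul, ← e, inv_smul_smul]
    have : g ∈ H := by
      have := H.mul_mem hh (hSH ⟨_, hmem⟩)
      simpa using this
    exact this
  have hinjΨ : Function.Injective Ψ := fun g h he => by
    exact Subtype.ext (Θ.permCongrHom.injective he)
  have hGcard : Nat.card G = 145926144000 := by
    rw [← S.card_mul_index, MulAction.index_stabilizer_of_transitive, Nat.card_eq_fintype_card (α := Ω), hΩ, hcS]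
  have heq : Ψ.range = RuH := by
    refine Subgroup.eq_of_le_of_card_ge hle ?_
    rw [card_RuH, ← hGcard, Nat.card_congr (MonoidHom.ofInjective hinjΨ).toEquiv]
  exact ⟨(MonoidHom.ofInjective hinjΨ).trans ((MulEquiv.subgroupCongr heq).trans ruEquiv.symm)⟩

end CfsgLib.RuRecog
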