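import Cfsg.Agent.Lib.RuLattice.Tits

set_option autoImplicit false
set_option maxRecDepth 100000

/-!
Orthogonality of the 4060 lines of the Rudvalis lattice.
-/

namespace CfsgLib.RuRecog

open Cfsg.Spor CfsgLib.RuLattice

/-- The packed product of orthogonal vectors. -/
def zeroH : ℕ := 28 * 65552

/-- Orthogonality of two lines given by numbers. -/
def adjN (a b : ℕ) : Bool := Nat.beq (hermC (4 * a) (4 * b)) zeroH

/-- Orthogonality of two lines. -/
def adj (p q : Fin 4060) : Bool := adjN p q

theorem adjN_iff {a b : ℕ} : adjN a b = true ↔ herm (vec (4 * a)) (vec (4 * b)) = 0 := by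
  rw [adjN, Nat.beq_eq]
  have h := hermC_spec (4 * a) (4 * b)
  obtain ⟨h1, h2⟩ := hermC_bound (4 * a) (4 * b)
  rw [abs_le] at h1 h2
  unfold encH at h
  constructor
  · intro e
    rw [e, zeroH] at h
    push_cast at h
    refine Zsqrtd.ext ?_ ?_ <;> simp only [Zsqrtd.re_zero, Zsqrtd.im_zero] <;> omega
  · intro e
    rw [e] at h
    simp only [Zsqrtd.re_zero, Zsqrtd.im_zero] at h
    unfold zeroH
    omega

theorem adj_iff {p q : Fin 4060} : adj p q = true ↔ herm (vec (4 * (p : ℕ))) (vec (4 * (q : ℕ))) = 0 := adjN_iff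

theorem adj_symm (p q : Fin 4060) : adj p q = adj q p := by
  rw [Bool.eq_iff_iff, adj_iff, adj_iff]
  constructor <;> intro h <;> rw [← herm_star, h, star_zero]

theorem adj_self (p : Fin 4060) : adj p p = false := by
  have hp : 4 * (p : ℕ) < 16240 := by have := p.2; omega
  rw [← Bool.not_eq_true, adj_iff, herm_self, ← coe_lvec hp, norm_lvec hp]
  decide

theorem ne_of_adj {p q : Fin 4060} (h : adj p q = true) : p ≠ q := by
  rintro rfl; rw [adj_self] at h; exact Bool.false_ne_true h

theorem adj_smul (g : fourRu) (p q : Fin 4060) : adj (g • p) (g • q) = adj p q := by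
  have key : ∀ l : Fin 4060, ∃ k, (app g (lvec (4 * (l : ℕ))) : RuVec) = gI ^ k • vec (4 * ((g • l : Fin 4060) : ℕ)) := by
    intro l
    have hl : 4 * (l : ℕ) < 16240 := by have := l.2; omega
    obtain ⟨j, hj, e⟩ := app_lvec g hl
    have h := smul_line hl hj e
    rw [ln_four] at h
    refine ⟨j % 4, ?_⟩
    rw [h, e, coe_lvec hj, show ((ln j : Fin 4060) : ℕ) = j / 4 by show j / 4 % 4060 = _; omega]
    conv_rhs => rw [show 4 * (j / 4) = 4 * (j / 4) + 0 from rfl, phase_vec _ (by norm_num : 0 < 4)]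
    congr 1
    omega
  obtain ⟨a, ha⟩ := key p
  obtain ⟨b, hb⟩ := key q
  have h := app_herm g (lvec (4 * (p : ℕ))) (lvec (4 * (q : ℕ)))
  rw [ha, hb, coe_lvec (by have := p.2; omega), coe_lvec (by have := q.2; omega), herm_smul_left, herm_smul_right,
    ← mul_assoc] at h
  have hne : star (gI ^ a) * gI ^ b ≠ 0 := mul_ne_zero (star_ne_zero.mpr (pow_ne_zero _ (by decide))) (pow_ne_zero _ (by decide))
  rw [Bool.eq_iff_iff, adj_iff, adj_iff, ← h, mul_eq_zero, or_iff_right hne]

theorem adj_zero (l : Fin 4060) : adj 0 l = smallB l := by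
  rw [Bool.eq_iff_iff, adj_iff, small_iff l.2, show (4 * ((0 : Fin 4060) : ℕ)) = 0 from rfl, herm_e0, vec_coord0]
  constructor
  · intro h
    exact nv_inj _ (vnib_lt _ _) 0 (by norm_num) ((mul_eq_zero.mp h).resolve_left (by decide))
  · intro h
    rw [h, show nv 0 = 0 from rfl, mul_zero]

/-- The rows, given as bit masks. -/
def bitAt (m q : ℕ) : Bool := Nat.beq ((m >>> q) % 2) 1

theorem card_filter_eq_countP (p : ℕ → Bool) :
    (Finset.univ.filter fun l : Fin 4060 => p l = true).card = (List.range 4060).countP p := by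
  rw [card_fin_filter, List.countP_eq_length_filter]

end CfsgLib.RuRecog
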