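import Cfsg.Agent.Lib.RuRecog.Rel
import Cfsg.Agent.Lib.RuRecog.Data

set_option autoImplicit false
set_option maxRecDepth 100000

/-!
Words of the point stabiliser, stored rows, and the separating set of lines.
-/

namespace CfsgLib.RuRecog

open Cfsg.Spor CfsgLib.RuLattice Finset

/-- The stabiliser of the first line. -/
abbrev Sg : Type := ↥(stabs 1)

/-- The element of a word. -/
noncomputable def el (w : List ℕ) : Sg :=
  if h : let3 w = true then ⟨wA w, stabs_one_eq ▸ wA_genAB h⟩ else 1

theorem el_val {w : List ℕ} (h : let3 w = true) : (el w : fourRu) = wA w := by rw [el, dif_pos h]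

theorem smul_def' (g : Sg) (p : Fin 4060) : g • p = (g : fourRu) • p := rfl

theorem pt_el {w : List ℕ} (h : let3 w = true) (p : Fin 4060) : ((el w • p : Fin 4060) : ℕ) = wl w p := by
  rw [smul_def', el_val h]
  exact wl_smul (let3_ok h) p

theorem el_append {v w : List ℕ} (hv : let3 v = true) (hw : let3 w = true) : el (v ++ w) = el v * el w := by
  have hvw : let3 (v ++ w) = true := by
    simp only [let3, List.all_append, Bool.and_eq_true] at hv hw ⊢
    exact ⟨hv, hw⟩
  refine Subtype.ext ?_
  rw [Subgroup.coe_mul, el_val hvw, el_val hv, el_val hw, wA, wA, wA, List.map_append, List.prod_append]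

theorem fix0 (g : Sg) : g • (0 : Fin 4060) = 0 := stabs_one_fix g.2

theorem adj_Sg (g : Sg) (p q : Fin 4060) : adj (g • p) (g • q) = adj p q := adj_smul (g : fourRu) p q

theorem small_Sg (g : Sg) (l : Fin 4060) : smallB (g • l : Fin 4060) = smallB l := by
  have h := adj_Sg g 0 l
  rwa [fix0, adj_zero, adj_zero] at h

/-- A line given by its number. -/
def L (n : ℕ) : Fin 4060 := Fin.ofNat 4060 n

theorem L_val {n : ℕ} (h : n < 4060) : (L n : ℕ) = n := Nat.mod_eq_of_lt h

theorem L_fin (p : Fin 4060) : L (p : ℕ) = p := Fin.ext (L_val p.2)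

theorem el_L {w : List ℕ} (h : let3 w = true) {n : ℕ} (hn : n < 4060) : el w • L n = L (wl w n) := by
  refine Fin.ext ?_
  rw [pt_el h, L_val hn, L_val (wl_spec (let3_ok h) hn).1]

theorem wl_lt {w : List ℕ} (h : let3 w = true) {n : ℕ} (hn : n < 4060) : wl w n < 4060 := (wl_spec (let3_ok h) hn).1

/-- The number of a stored row. -/
def rowPt (i : ℕ) : ℕ := rowPts.getD i 0

/-- A stored row. -/
def rowM (i : ℕ) : ℕ := rowMasks.getD i 0

/-- The check of one line in the rows computed directly. -/
def baseRowStep (q : ℕ) : Bool :=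
  (smallB q == bitAt (rowM 0) q) && (adjN (rowPt 1) q == bitAt (rowM 1) q) && (adjN (rowPt 2) q == bitAt (rowM 2) q)

theorem baseRow0 : chunk baseRowStep 4060 0 = true := by decide +kernel
theorem baseRow1 : chunk baseRowStep 4060 1 = true := by decide +kernel
theorem baseRow2 : chunk baseRowStep 4060 2 = true := by decide +kernel
theorem baseRow3 : chunk baseRowStep 4060 3 = true := by decide +kernel
theorem baseRow4 : chunk baseRowStep 4060 4 = true := by decide +kernel
theorem baseRow5 : chunk baseRowStep 4060 5 = true := by decide +kernel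
theorem baseRow6 : chunk baseRowStep 4060 6 = true := by decide +kernel
theorem baseRow7 : chunk baseRowStep 4060 7 = true := by decide +kernel
theorem baseRow8 : chunk baseRowStep 4060 8 = true := by decide +kernel
theorem baseRow9 : chunk baseRowStep 4060 9 = true := by decide +kernel
theorem baseRow10 : chunk baseRowStep 4060 10 = true := by decide +kernel
theorem baseRow11 : chunk baseRowStep 4060 11 = true := by decide +kernel
theorem baseRow12 : chunk baseRowStep 4060 12 = true := by decide +kernel
theorem baseRow13 : chunk baseRowStep 4060 13 = true := by decide +kernel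
theorem baseRow14 : chunk baseRowStep 4060 14 = true := by decide +kernel
theorem baseRow15 : chunk baseRowStep 4060 15 = true := by decide +kernel

/-- The header of a transported row. -/
def movedHead (i : ℕ) : Bool :=
  let3 (rowWs.getD i []) && Nat.blt (rowSrc.getD i 0) 3 && Nat.beq (wl (rowWs.getD i []) (rowPt (rowSrc.getD i 0))) (rowPt i)

/-- The check of a transported row. -/
def movedRow (i : ℕ) : Bool :=
  (List.range 4060).all fun q => bitAt (rowM i) (wl (rowWs.getD i []) q) == bitAt (rowM (rowSrc.getD i 0)) q

theorem rows_head : (Nat.beq rowPts.length 28 && Nat.beq (rowPt 0) 0 && rowPts.all (fun a => Nat.blt a 4060) &&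
    (List.range 28).all (fun i => Nat.blt i 3 || movedHead i)) = true := by decide +kernel

theorem movedA : ((List.range 28).all fun i => Nat.blt i 3 || Nat.ble 12 i || movedRow i) = true := by decide +kernel
theorem movedB : ((List.range 28).all fun i => Nat.blt i 12 || Nat.ble 20 i || movedRow i) = true := by decide +kernel
theorem movedC : ((List.range 28).all fun i => Nat.blt i 20 || movedRow i) = true := by decide +kernel

theorem rowPt_lt (i : ℕ) : rowPt i < 4060 := by
  have h := rows_head
  simp only [Bool.and_eq_true, List.all_eq_true, Nat.blt_eq] at h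
  unfold rowPt
  rcases lt_or_ge i rowPts.length with hi | hi
  · rw [List.getD_eq_getElem _ _ hi]; exact h.1.2 _ (List.getElem_mem hi)
  · rw [List.getD_eq_default _ _ hi]; norm_num

theorem row_base {i : ℕ} (hi : i < 3) (q : Fin 4060) : adj (L (rowPt i)) q = bitAt (rowM i) q := by
  have key := all_of_chunks (p := baseRowStep) (N := 4060) 16 (by norm_num) fun b hb => by
    interval_cases b
    exacts [baseRow0, baseRow1, baseRow2, baseRow3, baseRow4, baseRow5, baseRow6, baseRow7, baseRow8, baseRow9,
      baseRow10, baseRow11, baseRow12, baseRow13, baseRow14, baseRow15]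
  simp only [List.all_eq_true, List.mem_range] at key
  have h := key q q.2
  simp only [baseRowStep, Bool.and_eq_true, beq_iff_eq] at h
  interval_cases i
  · have h0 := rows_head
    simp only [Bool.and_eq_true, Nat.beq_eq] at h0
    rw [h0.1.1.2, show L 0 = 0 from rfl, adj_zero]; exact h.1.1
  · rw [adj, L_val (rowPt_lt _)]; exact h.1.2
  · rw [adj, L_val (rowPt_lt _)]; exact h.2

theorem row_spec {i : ℕ} (hi : i < 28) (q : Fin 4060) : adj (L (rowPt i)) q = bitAt (rowM i) q := by
  rcases lt_or_ge i 3 with h3 | h3
  · exact row_base h3 q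
  have h := rows_head
  simp only [Bool.and_eq_true, List.all_eq_true, List.mem_range, Bool.or_eq_true, Nat.blt_eq] at h
  have hm := (h.2 i hi).resolve_left (by omega)
  simp only [movedHead, Bool.and_eq_true, Nat.blt_eq, Nat.beq_eq] at hm
  obtain ⟨⟨hw, hs⟩, hp⟩ := hm
  have hr : movedRow i = true := by
    have a := movedA; have b := movedB; have c := movedC
    simp only [List.all_eq_true, List.mem_range, Bool.or_eq_true, Nat.blt_eq, Nat.ble_eq] at a b c
    rcases a i hi with (e | e) | e
    · omega
    · rcases b i hi with (e' | e') | e'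
      · omega
      · exact (c i hi).resolve_left (by omega)
      · exact e'
    · exact e
  simp only [movedRow, List.all_eq_true, List.mem_range, beq_iff_eq] at hr
  set g := el (rowWs.getD i [])
  have hg : g • L (rowPt (rowSrc.getD i 0)) = L (rowPt i) := by rw [el_L hw (rowPt_lt _), hp]
  obtain ⟨q', rfl⟩ : ∃ q', g • q' = q := ⟨g⁻¹ • q, smul_inv_smul g q⟩
  rw [← hg, adj_Sg, row_base hs, pt_el hw, hr q' q'.2]

/-- A bijection preserving orthogonality. -/
def IsAut (σ : Equiv.Perm (Fin 4060)) : Prop := ∀ p q, adj (σ p) (σ q) = adj p q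

theorem bit_image {σ : Equiv.Perm (Fin 4060)} (hσ : IsAut σ) {i : ℕ} (hi : i < 28)
    (hfix : σ (L (rowPt i)) = L (rowPt i)) (q : Fin 4060) : bitAt (rowM i) (σ q) = bitAt (rowM i) q := by
  rw [← row_spec hi, ← row_spec hi]
  conv_lhs => rw [← hfix]
  exact hσ _ _

/-- The row of a pinned line. -/
def pinRow (j : ℕ) : ℕ := pinIdx.getD j 0

/-- The code of a line. -/
def codeOf (q : ℕ) : ℕ := sumN (fun j => if bitAt (rowM (pinRow j)) q then 2 ^ j else 0) 20

/-- The line at a place of the order by codes. -/
def ordAt (i : ℕ) : ℕ := (codeOrd >>> (12 * i)) % 4096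

/-- The place of a line in the order by codes. -/
def posOf (q : ℕ) : ℕ := (codePos >>> (12 * q)) % 4096

theorem pins_ok : ((List.range 20).all (fun j => Nat.blt (pinRow j) 28) &&
    (List.range 4059).all (fun i => Nat.blt (codeOf (ordAt i)) (codeOf (ordAt (i + 1)))) &&
    (List.range 4060).all (fun q => Nat.blt (posOf q) 4060 && Nat.beq (ordAt (posOf q)) q)) = true := by decide +kernel

theorem pinRow_lt {j : ℕ} (hj : j < 20) : pinRow j < 28 := by
  have h := pins_ok
  simp only [Bool.and_eq_true, List.all_eq_true, List.mem_range, Nat.blt_eq] at h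
  exact h.1.1 j hj

theorem code_inj {p q : Fin 4060} (h : codeOf p = codeOf q) : p = q := by
  have hk := pins_ok
  simp only [Bool.and_eq_true, List.all_eq_true, List.mem_range, Nat.blt_eq, Nat.beq_eq] at hk
  have mono : ∀ a b, a < b → b < 4060 → codeOf (ordAt a) < codeOf (ordAt b) := by
    intro a b hab
    induction b with
    | zero => omega
    | succ b ih =>
      intro hb
      rcases Nat.lt_or_ge a b with e | e
      · exact (ih e (by omega)).trans (hk.1.2 b (by omega))
      · obtain rfl : a = b := by omega
        exact hk.1.2 a (by omega)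
  obtain ⟨hp, ep⟩ := hk.2 p p.2
  obtain ⟨hq, eq'⟩ := hk.2 q q.2
  rcases Nat.lt_trichotomy (posOf p) (posOf q) with e | e | e
  · have := mono _ _ e hq; rw [ep, eq', h] at this; exact absurd this (lt_irrefl _)
  · exact Fin.ext (ep.symm.trans (by rw [e, eq']))
  · have := mono _ _ e hp; rw [ep, eq', h] at this; exact absurd this (lt_irrefl _)

/-- An automorphism fixing the pinned lines is trivial. -/
theorem eq_one_of_pins {σ : Equiv.Perm (Fin 4060)} (hσ : IsAut σ)
    (h : ∀ j < 20, σ (L (rowPt (pinRow j))) = L (rowPt (pinRow j))) : σ = 1 := by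
  refine Equiv.ext fun q => code_inj ?_
  show codeOf (σ q : Fin 4060) = codeOf q
  have : ∀ n ≤ 20, sumN (fun j => if bitAt (rowM (pinRow j)) (σ q : Fin 4060) then 2 ^ j else 0) n =
      sumN (fun j => if bitAt (rowM (pinRow j)) (q : Fin 4060) then 2 ^ j else 0) n := by
    intro n
    induction n with
    | zero => intro _; rfl
    | succ n ih =>
      intro hn
      simp only [sumN, ih (by omega), bit_image hσ (pinRow_lt (j := n) (by omega)) (h n (by omega))]
  exact this 20 le_rfl

end CfsgLib.RuRecog
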