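import Cfsg.Agent.Lib.RuRecog.TraceZ

set_option autoImplicit false
set_option maxRecDepth 100000

/-!
A subgroup of order 15600 contains, up to conjugation, two stored elements and one of seven further ones.
-/

namespace CfsgLib.RuRecog

open Cfsg.Spor CfsgLib.RuLattice Finset MulAction

theorem conj_of_card {G : Type*} [Group G] [Finite G] {p : ℕ} [Fact p.Prime] {N A B : Subgroup G} {k : ℕ}
    (hA : A ≤ N) (hB : B ≤ N) (cA : Nat.card A = p ^ k) (cB : Nat.card B = p ^ k)
    (hk : (Nat.card N).factorization p = k) : ∃ n ∈ N, ∀ a ∈ A, n * a * n⁻¹ ∈ B := by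
  let PA : Sylow p N := Sylow.ofCard (A.subgroupOf N) (by
    rw [Nat.card_congr (Subgroup.subgroupOfEquivOfLe hA).toEquiv, cA, hk])
  let PB : Sylow p N := Sylow.ofCard (B.subgroupOf N) (by
    rw [Nat.card_congr (Subgroup.subgroupOfEquivOfLe hB).toEquiv, cB, hk])
  obtain ⟨n, hn⟩ := MulAction.exists_smul_eq N PA PB
  refine ⟨n, n.2, fun a ha => ?_⟩
  have hmem : n * ⟨a, hA ha⟩ * n⁻¹ ∈ ((n • PA : Sylow p N) : Subgroup N) := by
    rw [Sylow.coe_subgroup_smul]
    refine Subgroup.mem_map.2 ⟨⟨a, hA ha⟩, ?_, rfl⟩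
    show (⟨a, hA ha⟩ : N) ∈ A.subgroupOf N
    exact ha
  rw [hn] at hmem
  exact hmem

/-- The conjugate of a subgroup. -/
noncomputable def conjSub (M : Subgroup Sg) (n : Sg) : Subgroup Sg := M.map (MulAut.conj n).toMonoidHom

theorem mem_conjSub {M : Subgroup Sg} {n g : Sg} : g ∈ conjSub M n ↔ n⁻¹ * g * n ∈ M := by
  constructor
  · rintro ⟨m, hm, rfl⟩
    have : n⁻¹ * (n * m * n⁻¹) * n = m := by group
    rw [show (MulAut.conj n).toMonoidHom m = n * m * n⁻¹ from rfl, this]
    exact hm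
  · intro h
    exact ⟨_, h, show n * (n⁻¹ * g * n) * n⁻¹ = g by group⟩

theorem card_conjSub (M : Subgroup Sg) (n : Sg) : Nat.card (conjSub M n) = Nat.card M :=
  Subgroup.card_map_of_injective (MulAut.conj n).injective

theorem conj_mem_conjSub {M : Subgroup Sg} {n g : Sg} (h : g ∈ M) : n * g * n⁻¹ ∈ conjSub M n := ⟨g, h, rfl⟩

theorem conjSub_conjSub (M : Subgroup Sg) (m n : Sg) : conjSub (conjSub M m) n = conjSub M (n * m) := by
  ext g
  rw [mem_conjSub, mem_conjSub, mem_conjSub, show m⁻¹ * (n⁻¹ * g * n) * m = (n * m)⁻¹ * g * (n * m) by group]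

theorem card_zpowers_x : Nat.card (Subgroup.zpowers xS) = 13 := by rw [Nat.card_zpowers, xS_order]

theorem card_zpowers_g : Nat.card (Subgroup.zpowers gS) = 4 := by rw [Nat.card_zpowers, gS_order]

theorem with_x {M : Subgroup Sg} (hM : Nat.card M = 15600) : ∃ n, xS ∈ conjSub M n := by
  haveI : Fact (Nat.Prime 13) := ⟨by norm_num⟩
  obtain ⟨u, hu⟩ := exists_prime_orderOf_dvd_card' (G := M) 13 (by rw [hM]; norm_num)
  have hu' : orderOf (u : Sg) = 13 := by rw [Subgroup.orderOf_coe]; exact hu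
  have hS : Nat.card Sg = 35942400 := card_stabs_one
  have hk : (Nat.card (⊤ : Subgroup Sg)).factorization 13 = 1 := by
    rw [Subgroup.card_top, hS, show (35942400 : ℕ) = 13 ^ 1 * 2764800 by norm_num,
      Nat.factorization_mul (by norm_num) (by norm_num), Finsupp.add_apply, Nat.Prime.factorization_pow (Fact.out),
      Finsupp.single_eq_same, Nat.factorization_eq_zero_of_not_dvd (by norm_num)]
  obtain ⟨n, -, hn⟩ := conj_of_card (p := 13) (N := ⊤) (A := Subgroup.zpowers (u : Sg)) (B := Subgroup.zpowers xS)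
    le_top le_top (by rw [Nat.card_zpowers, hu', pow_one]) (by rw [card_zpowers_x, pow_one]) hk
  refine ⟨n, ?_⟩
  have h1 : n * (u : Sg) * n⁻¹ ∈ Subgroup.zpowers xS := hn _ (Subgroup.mem_zpowers _)
  have hle : Subgroup.zpowers (n * (u : Sg) * n⁻¹) ≤ conjSub M n := by
    rw [Subgroup.zpowers_le]; exact conj_mem_conjSub u.2
  have hsub : Subgroup.zpowers (n * (u : Sg) * n⁻¹) = Subgroup.zpowers xS := by
    refine Subgroup.eq_of_le_of_card_ge (Subgroup.zpowers_le.2 h1) ?_
    rw [card_zpowers_x, Nat.card_zpowers, show n * (u : Sg) * n⁻¹ = MulAut.conj n (u : Sg) from rfl,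
      MulEquiv.orderOf_eq, hu']
  exact hle (hsub ▸ Subgroup.mem_zpowers xS)

theorem card_meet {M : Subgroup Sg} (hM : Nat.card M = 15600) (hx : xS ∈ M) : Nat.card (M ⊓ NQ : Subgroup Sg) = 52 := by
  haveI : Fact (Nat.Prime 13) := ⟨by norm_num⟩
  have hQ : Subgroup.zpowers xS ≤ M := Subgroup.zpowers_le.2 hx
  have hfac : (Nat.card M).factorization 13 = 1 := by
    rw [hM, show (15600 : ℕ) = 13 ^ 1 * 1200 by norm_num, Nat.factorization_mul (by norm_num) (by norm_num),
      Finsupp.add_apply, Nat.Prime.factorization_pow (Fact.out), Finsupp.single_eq_same,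
      Nat.factorization_eq_zero_of_not_dvd (by norm_num)]
  let P : Sylow 13 M := Sylow.ofCard ((Subgroup.zpowers xS).subgroupOf M) (by
    rw [Nat.card_congr (Subgroup.subgroupOfEquivOfLe hQ).toEquiv, card_zpowers_x, hfac, pow_one])
  have h1 := card_sylow_modEq_one 13 M
  rw [P.card_eq_index_normalizer] at h1
  have hN : Subgroup.normalizer (P : Set M) = NQ.subgroupOf M := by
    ext m
    rw [Subgroup.mem_set_normalizer_iff, Subgroup.mem_subgroupOf, Subgroup.mem_normalizer_iff]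
    constructor
    · intro h n
      constructor
      · intro hn
        exact (h ⟨n, hQ hn⟩).1 hn
      · intro hn
        have hnM : n ∈ M := by
          have := M.mul_mem (M.mul_mem (M.inv_mem m.2) (hQ hn)) m.2
          simpa [mul_assoc] using this
        exact (h ⟨n, hnM⟩).2 hn
    · intro h n
      exact h n
  rw [hN] at h1
  have h2 := Subgroup.card_mul_index (NQ.subgroupOf M)
  have h3 : Nat.card (NQ.subgroupOf M) = Nat.card (M ⊓ NQ : Subgroup Sg) := by
    rw [← Subgroup.inf_subgroupOf_left NQ M]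
    exact Nat.card_congr (Subgroup.subgroupOfEquivOfLe inf_le_left).toEquiv
  rw [h3, hM] at h2
  have h4 : Nat.card (M ⊓ NQ : Subgroup Sg) ∣ 156 := card_NQ ▸ Subgroup.card_dvd_of_le inf_le_right
  have h5 : 13 ∣ Nat.card (M ⊓ NQ : Subgroup Sg) := by
    rw [← card_zpowers_x]
    exact Subgroup.card_dvd_of_le (le_inf hQ Subgroup.le_normalizer)
  have key : ∀ h ∈ Nat.divisors 156, 13 ∣ h → (15600 / h) % 13 = 1 → h = 52 := by decide +kernel
  refine key _ (Nat.mem_divisors.2 ⟨h4, by norm_num⟩) h5 ?_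
  rw [← h2, Nat.mul_div_cancel_left _ Nat.card_pos]
  exact h1

theorem with_g {M : Subgroup Sg} (hM : Nat.card M = 15600) (hx : xS ∈ M) :
    ∃ n, xS ∈ conjSub M n ∧ gS ∈ conjSub M n := by
  haveI : Fact (Nat.Prime 2) := ⟨by norm_num⟩
  obtain ⟨A, hA⟩ := Sylow.exists_subgroup_card_pow_prime (G := (M ⊓ NQ : Subgroup Sg)) 2 (n := 2)
    (by rw [card_meet hM hx]; norm_num)
  set A' := A.map (M ⊓ NQ : Subgroup Sg).subtype with hA'
  have hcA : Nat.card A' = 2 ^ 2 := by rw [hA', Subgroup.card_map_of_injective (Subgroup.subtype_injective _), hA]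
  have hle : A' ≤ M ⊓ NQ := Subgroup.map_subtype_le A
  have hk : (Nat.card NQ).factorization 2 = 2 := by
    rw [card_NQ, show (156 : ℕ) = 2 ^ 2 * 39 by norm_num, Nat.factorization_mul (by norm_num) (by norm_num),
      Finsupp.add_apply, Nat.Prime.factorization_pow (Fact.out), Finsupp.single_eq_same,
      Nat.factorization_eq_zero_of_not_dvd (by norm_num)]
  have hg : gS ∈ NQ := by rw [gS_eq]; exact pow_mem yS_mem_NQ _
  obtain ⟨n, hn, hconj⟩ := conj_of_card (p := 2) (N := NQ) (A := A') (B := Subgroup.zpowers gS)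
    (hle.trans inf_le_right) (Subgroup.zpowers_le.2 hg) hcA (by rw [card_zpowers_g]; norm_num) hk
  refine ⟨n, ?_, ?_⟩
  · rw [mem_conjSub]
    have h := (Subgroup.mem_normalizer_iff.1 (inv_mem hn) xS).1 (Subgroup.mem_zpowers _)
    rw [inv_inv] at h
    exact Subgroup.zpowers_le.2 hx h
  · have himg : A'.map (MulAut.conj n).toMonoidHom = Subgroup.zpowers gS := by
      refine Subgroup.eq_of_le_of_card_ge ?_ ?_
      · rintro _ ⟨a, ha, rfl⟩; exact hconj a ha
      · rw [Subgroup.card_map_of_injective (MulAut.conj n).injective, hcA, card_zpowers_g]; norm_num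
    exact Subgroup.map_mono (hle.trans inf_le_left) (himg ▸ Subgroup.mem_zpowers gS)

theorem fix_of_perm {α : Type*} {f : α → α} (hf : Function.Injective f) {a b c : α} (hab : a ≠ b) (hac : a ≠ c)
    (hbc : b ≠ c) (ha : f a = a ∨ f a = b ∨ f a = c) (hb : f b = a ∨ f b = b ∨ f b = c)
    (hc : f c = a ∨ f c = b ∨ f c = c) (ha2 : f (f a) = a) (hb2 : f (f b) = b) :
    f a = a ∨ f b = b ∨ f c = c := by
  by_contra hcon
  push Not at hcon
  obtain ⟨na, nb, nc⟩ := hcon
  rcases ha with e | e | e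
  · exact na e
  · rw [e] at ha2
    rcases hc with e' | e' | e'
    · exact hbc (hf (ha2.trans e'.symm))
    · exact hac (hf (e.trans e'.symm))
    · exact nc e'
  · rw [e] at ha2
    rcases hb with e' | e' | e'
    · exact hbc.symm (hf (ha2.trans e'.symm))
    · exact nb e'
    · exact hab (hf (e.trans e'.symm))

theorem with_z {M : Subgroup Sg} (hM : Nat.card M = 15600) (hx : xS ∈ M) (hg : gS ∈ M) :
    ∃ n, ∃ l < 7, xS ∈ conjSub M n ∧ gS ∈ conjSub M n ∧ el (zW.getD l []) ∈ conjSub M n := by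
  haveI : Fact (Nat.Prime 2) := ⟨by norm_num⟩
  set D := (Subgroup.zpowers gS).subgroupOf M with hD
  have hcD : Nat.card D = 2 ^ 2 := by
    rw [hD, Nat.card_congr (Subgroup.subgroupOfEquivOfLe (Subgroup.zpowers_le.2 hg)).toEquiv, card_zpowers_g]; norm_num
  obtain ⟨K, hK, hDK⟩ := Sylow.exists_subgroup_card_pow_succ (p := 2) (n := 2) (by rw [hM]; norm_num) hcD
  have hidx : (D.subgroupOf K).index = 2 := by
    have h := Subgroup.card_mul_index (D.subgroupOf K)
    rw [Nat.card_congr (Subgroup.subgroupOfEquivOfLe hDK).toEquiv, hcD, hK] at h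
    omega
  obtain ⟨z0, hz0, hz0D⟩ : ∃ z ∈ K, z ∉ D := by
    by_contra hcon
    push Not at hcon
    have := Nat.card_le_card_of_injective _ (Subgroup.inclusion_injective (hcon : K ≤ D))
    omega
  set z : Sg := (z0 : Sg) with hz
  have hzD : z ∉ Subgroup.zpowers gS := hz0D
  have hsq : z * z ∈ Subgroup.zpowers gS := Subgroup.mul_self_mem_of_index_two hidx ⟨z0, hz0⟩
  have hnorm : z * gS * z⁻¹ ∈ Subgroup.zpowers gS :=
    (Subgroup.normal_of_index_eq_two hidx).conj_mem ⟨⟨gS, hg⟩, hDK (Subgroup.mem_zpowers gS)⟩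
      (Subgroup.mem_zpowers gS) ⟨z0, hz0⟩
  have hn : z * gS * z⁻¹ = gS ∨ z * gS * z⁻¹ = gS⁻¹ := by
    obtain ⟨m, hm, e⟩ : ∃ m < 4, gS ^ m = z * gS * z⁻¹ := by
      obtain ⟨m, hm⟩ := (IsOfFinOrder.mem_powers_iff_mem_zpowers (isOfFinOrder_of_finite gS)).2 hnorm
      refine ⟨m % 4, Nat.mod_lt _ (by norm_num), ?_⟩
      rw [← gS_order, pow_mod_orderOf]
      exact hm
    have ho : orderOf (gS ^ m) = 4 := by
      rw [e, show z * gS * z⁻¹ = MulAut.conj z gS from rfl, MulEquiv.orderOf_eq, gS_order]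
    rw [orderOf_pow, gS_order] at ho
    interval_cases m
    · norm_num at ho
    · left; rw [← e, pow_one]
    · norm_num at ho
    · right
      rw [← e, eq_inv_iff_mul_eq_one, ← pow_succ, show 3 + 1 = orderOf gS by rw [gS_order], pow_orderOf_eq_one]
  obtain ⟨hq, hr, -, -, -, -⟩ := g_facts
  have fp := fix_props
  simp only [List.all_eq_true, Bool.and_eq_true, Nat.blt_eq, Nat.beq_eq, List.any_eq_true, List.mem_range] at fp
  have hperm : ∀ f ∈ fixQ, ∃ f' ∈ fixQ, z • L f = L f' ∧ z • (z • L f) = L f := by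
    intro f hf
    obtain ⟨⟨⟨f1, f2⟩, f3⟩, -⟩ := fp f hf
    have gfix : gS • L f = L f := by rw [gS, el_L hq f1, f3]
    have ginv : gS⁻¹ • L f = L f := by rw [inv_smul_eq_iff, gfix]
    have gz : gS • (z • L f) = z • L f := by
      rw [← mul_smul]
      rcases hn with e | e
      · rw [mul_inv_eq_iff_eq_mul] at e
        rw [← e, mul_smul, gfix]
      · rw [mul_inv_eq_iff_eq_mul] at e
        have : gS * z = z * gS⁻¹ := by
          rw [eq_mul_inv_iff_mul_eq, mul_assoc, e, mul_inv_cancel_left]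
        rw [this, mul_smul, ginv]
    have hs : smallB (z • L f : Fin 4060) = true := by rw [small_Sg, L_val f1, f2]
    have hsc := fix_scan
    simp only [List.all_eq_true, List.mem_range, fixStep, Bool.or_eq_true, Bool.not_eq_true', ← Bool.not_eq_true,
      Nat.beq_eq, List.any_eq_true] at hsc
    rcases hsc _ (z • L f : Fin 4060).2 with (e | e) | ⟨f', hf', e⟩
    · rw [hs] at e; exact absurd rfl e
    · refine absurd ?_ e
      rw [← pt_el hq, ← gS, gz]
    · refine ⟨f', hf', by rw [← e, L_fin], ?_⟩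
      obtain ⟨m, hm⟩ := Subgroup.mem_zpowers_iff.1 hsq
      rw [← mul_smul, ← hm]
      exact MulAction.mem_stabilizer_iff.1 (Subgroup.zpow_mem _ (MulAction.mem_stabilizer_iff.2 gfix) m)
  obtain ⟨f, hf, hzf⟩ : ∃ f ∈ fixQ, z • L f = L f := by
    have key : ∀ f ∈ fixQ, (z • L f = L 387 ∨ z • L f = L 2811 ∨ z • L f = L 3999) ∧ z • (z • L f) = L f := by
      intro f hf
      obtain ⟨f', hf', e1, e2⟩ := hperm f hf
      rw [fixQ_eq] at hf'
      simp only [List.mem_cons, List.not_mem_nil, or_false] at hf'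
      rcases hf' with rfl | rfl | rfl
      exacts [⟨Or.inl e1, e2⟩, ⟨Or.inr (Or.inl e1), e2⟩, ⟨Or.inr (Or.inr e1), e2⟩]
    have ne : ∀ {a b : ℕ}, a < 4060 → b < 4060 → a ≠ b → L a ≠ L b := fun ha hb h e => h (L_inj ha hb e)
    have m0 : 387 ∈ fixQ := by rw [fixQ_eq]; simp
    have m1 : 2811 ∈ fixQ := by rw [fixQ_eq]; simp
    have m2 : 3999 ∈ fixQ := by rw [fixQ_eq]; simp
    rcases fix_of_perm (f := fun q : Fin 4060 => z • q) (MulAction.injective z) (ne (a := 387) (b := 2811) (by norm_num)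
      (by norm_num) (by norm_num)) (ne (a := 387) (b := 3999) (by norm_num) (by norm_num) (by norm_num))
      (ne (a := 2811) (b := 3999) (by norm_num) (by norm_num) (by norm_num)) (key _ m0).1 (key _ m1).1 (key _ m2).1
      (key _ m0).2 (key _ m1).2 with e | e | e
    exacts [⟨_, m0, e⟩, ⟨_, m1, e⟩, ⟨_, m2, e⟩]
  obtain ⟨⟨⟨f1, -⟩, -⟩, j, -, hj⟩ := fp f hf
  set n := rS ^ j with hnr
  have hnf : n • L f = L 387 := by rw [hnr, rS, ← el_rep hr, el_L (let3_rep hr j) f1, hj]
  have hcg : Commute n gS := by rw [hnr, rS_eq, gS_eq, ← pow_mul]; exact Commute.pow_pow_self _ _ _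
  have hnN : n ∈ NQ := by rw [hnr, rS_eq, ← pow_mul]; exact pow_mem yS_mem_NQ _
  have hx' : xS ∈ conjSub M n := by
    rw [mem_conjSub]
    have h := (Subgroup.mem_normalizer_iff.1 (inv_mem hnN) xS).1 (Subgroup.mem_zpowers _)
    rw [inv_inv] at h
    exact Subgroup.zpowers_le.2 hx h
  have hg' : gS ∈ conjSub M n := by
    rw [mem_conjSub, mul_assoc, ← hcg.eq, inv_mul_cancel_left]; exact hg
  set z' := n * z * n⁻¹ with hz'
  have hz'M : z' ∈ conjSub M n := conj_mem_conjSub z0.2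
  have hpow : ∀ a ∈ Subgroup.zpowers gS, n * a * n⁻¹ = a := by
    intro a ha
    obtain ⟨m, rfl⟩ := Subgroup.mem_zpowers_iff.1 ha
    rw [(hcg.zpow_right m).eq, mul_inv_cancel_right]
  have e1 : n * gS * n⁻¹ = gS := hpow _ (Subgroup.mem_zpowers _)
  obtain ⟨l, hl, m, e⟩ := z_forms (z := z') (by
      rw [← hnf, hz', smul_smul, inv_mul_cancel_right, mul_smul, hzf])
    (by
      have e3 : z' * gS * z'⁻¹ = n * (z * gS * z⁻¹) * n⁻¹ := by
        rw [hz']; conv_lhs => rw [← e1]
        group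
      rcases hn with e | e
      · left; rw [e3, e, e1]
      · right; rw [e3, e, hpow _ (inv_mem (Subgroup.mem_zpowers _))])
    (by rw [hz', conj_mul, hpow _ hsq]; exact hsq)
  rcases Nat.lt_or_ge l 7 with hl' | hl'
  · refine ⟨n, l, hl', hx', hg', ?_⟩
    rw [eq_mul_inv_iff_mul_eq.2 e.symm]
    exact mul_mem hz'M (inv_mem (pow_mem hg' m))
  · exfalso
    rw [List.getD_eq_default _ _ (by rw [zW_let3.2]; exact hl'), el_nil, one_mul] at e
    refine hzD ?_
    have hz2 : z = n⁻¹ * gS ^ m * n := by rw [← e, hz']; group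
    rw [hz2, mul_assoc, ← (hcg.pow_right m).eq, inv_mul_cancel_left]
    exact pow_mem (Subgroup.mem_zpowers _) m

/-- The reduction of a subgroup of order 15600. -/
theorem reduce15600 {M : Subgroup Sg} (hM : Nat.card M = 15600) :
    ∃ n, ∃ l < 7, xS ∈ conjSub M n ∧ gS ∈ conjSub M n ∧ el (zW.getD l []) ∈ conjSub M n := by
  obtain ⟨a, ha⟩ := with_x hM
  obtain ⟨b, hb, hb'⟩ := with_g (by rw [card_conjSub, hM]) ha
  obtain ⟨c, l, hl, h1, h2, h3⟩ := with_z (by rw [card_conjSub, card_conjSub, hM]) hb hb'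
  rw [conjSub_conjSub, conjSub_conjSub] at h1 h2 h3
  exact ⟨_, l, hl, h1, h2, h3⟩

end CfsgLib.RuRecog
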