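import Cfsg.Agent.Lib.RuRecog.TraceM

set_option autoImplicit false
set_option maxRecDepth 100000

/-!
The traces of the far lines on the lines orthogonal to the first.
-/

namespace CfsgLib.RuRecog

open Cfsg.Spor CfsgLib.RuLattice Finset MulAction

/-- An entry of an orbit tree. -/
def entAt (t i : ℕ) : ℕ := (t >>> (29 * i)) % 536870912

/-- The line of an entry. -/
def entPt (t i : ℕ) : ℕ := entAt t i % 4096

/-- The parent of an entry. -/
def entPar (t i : ℕ) : ℕ := (entAt t i >>> 12) % 4096

/-- The generator of an entry. -/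
def entGen (t i : ℕ) : ℕ := (entAt t i >>> 24) % 4

/-- The three generators of a coset. -/
def genW (l k : ℕ) : List ℕ := [xW, qW, zW.getD l []].getD k []

/-- A side of the first tree split in two. -/
def side (l i : ℕ) : Bool := Nat.blt l 3 && Nat.ble 780 i

/-- The check of one entry of a small tree. -/
def treeStep (l i : ℕ) : Bool :=
  let t := orbT.getD l 0
  Nat.blt (entPt t i) 4060 && smallB (entPt t i) &&
    ((Nat.beq (entGen t i) 3 && (Nat.beq i 0 || (Nat.blt l 3 && Nat.beq i 780))) ||
      (Nat.blt (entPar t i) i && Nat.blt (entGen t i) 3 && (side l i == side l (entPar t i)) &&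
        Nat.beq (wl (genW l (entGen t i)) (entPt t (entPar t i))) (entPt t i)))

/-- The cover of the small lines by a tree. -/
def coverStep (l q : ℕ) : Bool :=
  !(smallB q) || (Nat.blt (tabAt (orbP.getD l 0) q) 1755 &&
    Nat.beq (entPt (orbT.getD l 0) (tabAt (orbP.getD l 0) q)) q)

theorem trees_ok : ((List.range 7).all fun l => (List.range 1755).all (treeStep l)) = true := by decide +kernel

theorem covers_ok : ((List.range 7).all fun l => (List.range 4060).all (coverStep l)) = true := by decide +kernel

/-- The split of a good tree is the pattern at a stored fixed line. -/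
def splitStep (l q : ℕ) : Bool :=
  !(smallB q) || (Nat.blt (tabAt (orbP.getD l 0) q) 780 == adjN (zFix.getD l 0) q)

theorem split0 : (List.range 4060).all (splitStep 0) = true := by decide +kernel
theorem split1 : (List.range 4060).all (splitStep 1) = true := by decide +kernel
theorem split2 : (List.range 4060).all (splitStep 2) = true := by decide +kernel

theorem zFix_facts : ((List.range 3).all fun l => Nat.blt (zFix.getD l 0) 4060 && !(smallB (zFix.getD l 0)) &&
    !(Nat.beq (zFix.getD l 0) 0)) = true ∧ rowPt 2 = 1475 ∧ smallB 1475 = false ∧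
    (List.range 4060).countP (fun q => smallB q && bitAt (rowM 2) q) = 780 := by decide +kernel

/-- The trace of a line on the lines orthogonal to the first. -/
def Tr (d : Fin 4060) : Finset (Fin 4060) := univ.filter fun q => smallB q = true ∧ adj d q = true

theorem mem_Tr {d q : Fin 4060} : q ∈ Tr d ↔ smallB q = true ∧ adj d q = true := by simp [Tr]

theorem Tr_smul (g : Sg) (d q : Fin 4060) : g • q ∈ Tr (g • d) ↔ q ∈ Tr d := by
  rw [mem_Tr, mem_Tr, adj_Sg, small_Sg]

theorem card_Tr {d : Fin 4060} (hd : smallB d = false) (h0 : d ≠ 0) : (Tr d).card = 780 := by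
  obtain ⟨-, e2, e3, e4⟩ := zFix_facts
  have h1 : L 1475 ≠ 0 := fun e => by
    have := L_inj (by norm_num) (by norm_num) (show L 1475 = L 0 from e); omega
  obtain ⟨g, hg, e⟩ := same_suborbit h1 h0 (by rw [hd, L_val (by norm_num), e3])
  set g' : Sg := ⟨g, hg⟩
  have e' : g' • L 1475 = d := e
  have : Tr d = (Tr (L 1475)).image (g' • ·) := by
    ext q
    rw [mem_image]
    constructor
    · intro hq
      refine ⟨g'⁻¹ • q, ?_, smul_inv_smul _ _⟩
      rw [← Tr_smul g', smul_inv_smul, e']; exact hq
    · rintro ⟨r, hr, rfl⟩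
      rw [← e', Tr_smul]; exact hr
  rw [this, card_image_of_injective _ (MulAction.injective g'), ← e4,
    ← card_filter_eq_countP (fun q => smallB q && bitAt (rowM 2) q), Tr]
  refine congrArg Finset.card (Finset.filter_congr fun q _ => ?_)
  rw [Bool.and_eq_true, ← e2, row_spec (by norm_num)]

theorem genW_let3 {l : ℕ} (k : ℕ) (hl : l < 7) : let3 (genW l k) = true := by
  have hz : let3 (zW.getD l []) = true := by
    rw [List.getD_eq_getElem _ _ (by rw [zW_let3.2]; exact hl)]
    exact List.all_eq_true.1 zW_let3.1 _ (List.getElem_mem _)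
  rcases k with _ | _ | _ | k
  exacts [xW_let3.1, g_facts.1, hz, rfl]

set_option maxHeartbeats 1600000 in
/-- An invariant set of 780 small lines of a reduced subgroup. -/
theorem trace_reduced {M : Subgroup Sg} {l : ℕ} (hl : l < 7) (hx : xS ∈ M) (hg : gS ∈ M) (hz : el (zW.getD l []) ∈ M)
    {T : Finset (Fin 4060)} (hT : ∀ q ∈ T, smallB q = true) (hc : T.card = 780) (hinv : ∀ g ∈ M, ∀ q ∈ T, g • q ∈ T) :
    ∃ d : Fin 4060, smallB d = false ∧ d ≠ 0 ∧ T = Tr d := by
  have hiff : ∀ g ∈ M, ∀ q, g • q ∈ T ↔ q ∈ T := fun g hg' q =>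
    ⟨fun h => by have := hinv _ (M.inv_mem hg') _ h; rwa [inv_smul_smul] at this, hinv g hg' q⟩
  have hgen : ∀ k, el (genW l k) ∈ M := by
    intro k
    rcases k with _ | _ | _ | k
    · exact hx
    · exact hg
    · exact hz
    · show el [] ∈ M; rw [el_nil]; exact M.one_mem
  set t := orbT.getD l 0
  have ht := trees_ok
  simp only [List.all_eq_true, List.mem_range] at ht
  have ht := ht l hl
  simp only [treeStep, Bool.and_eq_true, Bool.or_eq_true, Nat.blt_eq, Nat.beq_eq, beq_iff_eq] at ht
  have hroot : ∀ i < 1755, (L (entPt t i) ∈ T ↔ L (entPt t (bif side l i then 780 else 0)) ∈ T) := by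
    intro i
    induction i using Nat.strong_induction_on with
    | _ i ih =>
      intro hi
      rcases (ht i hi).2 with ⟨-, rfl | ⟨h3, rfl⟩⟩ | ⟨⟨⟨hp, hk⟩, hs⟩, he⟩
      · rw [show side l 0 = false by rw [side, show Nat.ble 780 0 = false from rfl, Bool.and_false]]; exact Iff.rfl
      · rw [show side l 780 = true by simp [side, Nat.blt_eq, h3]]; exact Iff.rfl
      · rw [hs, ← ih _ hp (by omega), ← he, ← el_L (genW_let3 _ hl) (ht _ (by omega)).1.1, hiff _ (hgen _)]
  have hcv := covers_ok
  simp only [List.all_eq_true, List.mem_range] at hcv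
  have hcv := hcv l hl
  simp only [coverStep, Bool.and_eq_true, Bool.or_eq_true, Bool.not_eq_true', Nat.blt_eq, Nat.beq_eq] at hcv
  have hmem : ∀ q : Fin 4060, smallB q = true →
      (q ∈ T ↔ L (entPt t (bif side l (tabAt (orbP.getD l 0) q) then 780 else 0)) ∈ T) := by
    intro q hq
    rcases hcv q q.2 with e | ⟨e1, e2⟩
    · rw [hq] at e; exact absurd e (by decide)
    · conv_lhs => rw [← L_fin q, ← e2]
      exact hroot _ e1
  set S : Finset (Fin 4060) := univ.filter fun q => smallB q = true with hS
  have hcS : S.card = 1755 := by rw [hS, card_fin_filter, small_count]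
  have hTS : T ⊆ S := fun q hq => mem_filter.2 ⟨mem_univ _, hT q hq⟩
  rcases Nat.lt_or_ge l 3 with h3 | h3
  · have hsp : ∀ q < 4060, splitStep l q = true := by
      interval_cases l
      exacts [by simpa using split0, by simpa using split1, by simpa using split2]
    obtain ⟨hz', -, -, -⟩ := zFix_facts
    simp only [List.all_eq_true, List.mem_range, Bool.and_eq_true, Bool.not_eq_true', Nat.blt_eq] at hz'
    obtain ⟨⟨d1, d2⟩, d3⟩ := hz' l h3
    set d := L (zFix.getD l 0) with hd
    have hd2 : smallB d = false := by rw [hd, L_val d1, d2]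
    have hd3 : d ≠ 0 := fun e => by
      have := L_inj d1 (by norm_num) (show d = L 0 from e)
      rw [this, Nat.beq_refl] at d3; exact Bool.noConfusion d3
    refine ⟨d, hd2, hd3, ?_⟩
    have cls : ∀ q : Fin 4060, smallB q = true →
        (q ∈ T ↔ L (entPt t (if adj d q = true then 0 else 780)) ∈ T) := by
      intro q hq
      have h := hsp q q.2
      simp only [splitStep, hq, Bool.not_true, Bool.false_or, beq_iff_eq] at h
      rw [hmem q hq, adj, hd, L_val d1, ← h]
      have hb : side l (tabAt (orbP.getD l 0) q) = !Nat.blt (tabAt (orbP.getD l 0) q) 780 := by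
        have e3 : Nat.blt l 3 = true := by rw [Nat.blt_eq]; exact h3
        rw [side, e3, Bool.true_and, Bool.eq_iff_iff, Bool.not_eq_true', ← Bool.not_eq_true, Nat.blt_eq, Nat.ble_eq]
        omega
      rw [hb]
      cases Nat.blt (tabAt (orbP.getD l 0) q) 780 <;> simp
    have hcd := card_Tr hd2 hd3
    by_cases hA : L (entPt t 0) ∈ T <;> by_cases hB : L (entPt t 780) ∈ T
    · exfalso
      have : S ⊆ T := fun q hq => by
        rw [hS, mem_filter] at hq
        rw [cls q hq.2]; split_ifs <;> assumption
      have := card_le_card this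
      omega
    · ext q
      rw [mem_Tr]
      constructor
      · intro hq
        refine ⟨hT q hq, ?_⟩
        by_contra hb
        rw [cls q (hT q hq), if_neg hb] at hq
        exact hB hq
      · rintro ⟨hq, hb⟩
        rw [cls q hq, if_pos hb]; exact hA
    · exfalso
      have : S ⊆ T ∪ Tr d := fun q hq => by
        rw [hS, mem_filter] at hq
        rw [mem_union, mem_Tr]
        by_cases hb : adj d q = true
        · exact Or.inr ⟨hq.2, hb⟩
        · left; rw [cls q hq.2, if_neg hb]; exact hB
      have := (card_le_card this).trans (card_union_le _ _)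
      omega
    · exfalso
      have : T = ∅ := Finset.eq_empty_of_forall_notMem fun q hq => by
        have := (cls q (hT q hq)).1 hq
        split_ifs at this
        exacts [hA this, hB this]
      rw [this] at hc; simp at hc
  · exfalso
    have hs : ∀ i, side l i = false := fun i => by
      rw [← Bool.not_eq_true]; simp [side, Nat.blt_eq]; omega
    by_cases hA : L (entPt t 0) ∈ T
    · have : S ⊆ T := fun q hq => by
        rw [hS, mem_filter] at hq
        rw [hmem q hq.2, hs]; exact hA
      have := card_le_card this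
      omega
    · have : T = ∅ := Finset.eq_empty_of_forall_notMem fun q hq => by
        have := (hmem q (hT q hq)).1 hq
        rw [hs] at this; exact hA this
      rw [this] at hc; simp at hc

/-- An invariant set of 780 small lines of a subgroup of order 15600 is a trace. -/
theorem trace_of_card {M : Subgroup Sg} (hM : Nat.card M = 15600) {T : Finset (Fin 4060)}
    (hT : ∀ q ∈ T, smallB q = true) (hc : T.card = 780) (hinv : ∀ g ∈ M, ∀ q ∈ T, g • q ∈ T) :
    ∃ d : Fin 4060, smallB d = false ∧ d ≠ 0 ∧ T = Tr d := by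
  obtain ⟨n, l, hl, hx, hg, hz⟩ := reduce15600 hM
  obtain ⟨d, h1, h2, h3⟩ := trace_reduced hl hx hg hz (T := T.image (n • ·))
    (fun q hq => by obtain ⟨r, hr, rfl⟩ := mem_image.1 hq; rw [small_Sg, hT r hr])
    (by rw [card_image_of_injective _ (MulAction.injective n), hc])
    (fun g hg q hq => by
      obtain ⟨r, hr, rfl⟩ := mem_image.1 hq
      refine mem_image.2 ⟨_, hinv _ (mem_conjSub.1 hg) r hr, ?_⟩
      simp [← mul_smul, mul_assoc])
  refine ⟨n⁻¹ • d, by rw [small_Sg, h1], fun e => h2 ?_, ?_⟩
  · rw [inv_smul_eq_iff, fix0] at e; exact e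
  · ext q
    rw [← Tr_smul n, smul_inv_smul, ← h3, Finset.mem_image]
    exact ⟨fun h => ⟨q, h, rfl⟩, fun ⟨r, hr, e⟩ => MulAction.injective n e ▸ hr⟩

/-- The class of an entry of the tree of large lines. -/
def farCls (i : ℕ) : ℕ := entAt farT i >>> 26

/-- The first entries of the classes. -/
def farStart : List ℕ := [0, 1, 976, 1276, 1576, 1654]

/-- The check of an entry of the tree of large lines. -/
def farStep (i : ℕ) : Bool :=
  Nat.blt (entPt farT i) 4060 && Nat.blt (farCls i) 6 &&
    ((Nat.beq (entGen farT i) 3 && Nat.beq i (farStart.getD (farCls i) 0)) ||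
      (Nat.blt (entPar farT i) i && Nat.blt (entGen farT i) 3 && Nat.beq (farCls (entPar farT i)) (farCls i) &&
        Nat.beq (wl (genW 0 (entGen farT i)) (entPt farT (entPar farT i))) (entPt farT i)))

/-- The cover of the large lines. -/
def farCover (q : ℕ) : Bool :=
  smallB q || Nat.beq q 0 || (Nat.blt (tabAt farP q) 2304 && Nat.beq (entPt farT (tabAt farP q)) q)

/-- The roots and their witnesses. -/
def farRootsOK : Bool :=
  (List.range 6).all fun c => Nat.beq (entPt farT (farStart.getD c 0)) (farRoots.getD c 0) &&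
    (Nat.beq c 0 || (smallB (farWit.getD c 0) && Nat.blt (farWit.getD c 0) 4060 &&
      !(adjN (farRoots.getD c 0) (farWit.getD c 0) == adjN 1475 (farWit.getD c 0))))

theorem far_tree : (List.range 2304).all farStep = true := by decide +kernel

theorem far_cover : (List.range 4060).all farCover = true := by decide +kernel

theorem far_roots : farRootsOK = true ∧ entPt farT 0 = 1475 ∧ ((List.range 6).all fun c => Nat.blt (farStart.getD c 0) 2304) = true ∧
    ((List.range 4).all fun k => Nat.beq (wl (genW 0 k) 1475) 1475) = true := by decide +kernel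

/-- The subgroup generated by the three elements fixing a far line. -/
noncomputable def K0 : Subgroup Sg := Subgroup.closure {xS, gS, el (zW.getD 0 [])}

theorem genW_mem (k : ℕ) : el (genW 0 k) ∈ K0 := by
  rcases k with _ | _ | _ | k
  · exact Subgroup.subset_closure (by simp [genW, xS])
  · exact Subgroup.subset_closure (by simp [genW, gS])
  · exact Subgroup.subset_closure (by simp [genW])
  · show el [] ∈ K0; rw [el_nil]; exact K0.one_mem

theorem K0_fix {g : Sg} (hg : g ∈ K0) : g • L 1475 = L 1475 := by
  have h : K0 ≤ stabilizer Sg (L 1475) := by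
    obtain ⟨-, -, -, hf⟩ := far_roots
    simp only [List.all_eq_true, List.mem_range, Nat.beq_eq] at hf
    rw [K0, Subgroup.closure_le]
    rintro g (rfl | rfl | rfl)
    · exact mem_stabilizer_iff.2 (by rw [xS, el_L xW_let3.1 (by norm_num)]; exact congrArg L (hf 0 (by norm_num)))
    · exact mem_stabilizer_iff.2 (by rw [gS, el_L g_facts.1 (by norm_num)]; exact congrArg L (hf 1 (by norm_num)))
    · exact mem_stabilizer_iff.2 (by
        rw [show zW.getD 0 [] = genW 0 2 from rfl, el_L (genW_let3 2 (by norm_num)) (by norm_num)]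
        exact congrArg L (hf 2 (by norm_num)))
  exact mem_stabilizer_iff.1 (h hg)

theorem far_rep : ∀ i < 2304, ∃ k ∈ K0, k • L (entPt farT (farStart.getD (farCls i) 0)) = L (entPt farT i) := by
  have h := far_tree
  simp only [List.all_eq_true, List.mem_range, farStep, Bool.and_eq_true, Bool.or_eq_true, Nat.blt_eq, Nat.beq_eq] at h
  intro i
  induction i using Nat.strong_induction_on with
  | _ i ih =>
    intro hi
    rcases (h i hi).2 with ⟨-, e⟩ | ⟨⟨⟨hp, hk⟩, hc⟩, he⟩
    · exact ⟨1, K0.one_mem, by rw [one_smul, ← e]⟩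
    · obtain ⟨k, hk', e⟩ := ih _ hp (by omega)
      refine ⟨el (genW 0 (entGen farT i)) * k, K0.mul_mem (genW_mem _) hk', ?_⟩
      rw [mul_smul, ← hc, e, el_L (genW_let3 _ (by norm_num)) (h _ (by omega)).1.1, he]

/-- The traces determine the far lines. -/
theorem Tr_inj {d d' : Fin 4060} (hd : smallB d = false) (h0 : d ≠ 0) (hd' : smallB d' = false) (h0' : d' ≠ 0)
    (h : Tr d = Tr d') : d = d' := by
  obtain ⟨hr, r0, -, -⟩ := far_roots
  have hc0 : L 1475 ≠ 0 := fun e => by
    have := L_inj (by norm_num) (by norm_num) (show L 1475 = L 0 from e); omega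
  obtain ⟨g, hg, e⟩ := same_suborbit h0' hc0 (by rw [hd', L_val (by norm_num)]; exact zFix_facts.2.2.1.symm)
  set g' : Sg := ⟨g, hg⟩
  have e' : g' • d' = L 1475 := e
  set q := g' • d with hq
  suffices q = L 1475 from MulAction.injective g' (this.trans e'.symm)
  have hqs : smallB q = false := by rw [hq, small_Sg, hd]
  have hq0 : q ≠ 0 := fun e => h0 (MulAction.injective g' (e.trans (fix0 g').symm))
  have hT : ∀ r : Fin 4060, r ∈ Tr q ↔ r ∈ Tr (L 1475) := fun r => by
    obtain ⟨r, rfl⟩ : ∃ r', g' • r' = r := ⟨g'⁻¹ • r, smul_inv_smul _ _⟩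
    rw [hq, ← e', Tr_smul, Tr_smul, h]
  have hcv := far_cover
  simp only [List.all_eq_true, List.mem_range, farCover, Bool.or_eq_true, Bool.and_eq_true, Nat.blt_eq, Nat.beq_eq] at hcv
  rcases hcv q q.2 with (a | a) | ⟨a1, a2⟩
  · rw [hqs] at a; exact absurd a (by decide)
  · exact absurd (Fin.ext a) hq0
  · obtain ⟨k, hk, ek⟩ := far_rep _ a1
    rw [a2, L_fin] at ek
    have ht := far_tree
    simp only [List.all_eq_true, List.mem_range, farStep, Bool.and_eq_true, Nat.blt_eq] at ht
    have hc := (ht _ a1).1.2
    simp only [farRootsOK, List.all_eq_true, List.mem_range, Bool.and_eq_true, Bool.or_eq_true, Nat.beq_eq,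
      Nat.blt_eq, Bool.not_eq_true'] at hr
    obtain ⟨hroot, hwit⟩ := hr _ hc
    rcases hwit with hz | ⟨⟨w1, w2⟩, w3⟩
    · rw [hz, show farStart.getD 0 0 = 0 from rfl, r0, K0_fix hk] at ek
      exact ek.symm
    · exfalso
      rw [hroot] at ek
      set w := L (farWit.getD (farCls (tabAt farP (q : ℕ))) 0) with hw
      have hwv : (w : ℕ) = farWit.getD (farCls (tabAt farP (q : ℕ))) 0 := L_val w2
      have hr0 : farRoots.getD (farCls (tabAt farP (q : ℕ))) 0 < 4060 := by
        rw [← hroot]
        have hs := far_roots.2.2.1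
        simp only [List.all_eq_true, List.mem_range, Nat.blt_eq] at hs
        exact (ht _ (hs _ hc)).1.1
      have h1 := hT (k • w)
      conv_lhs at h1 => rw [← ek, Tr_smul]
      conv_rhs at h1 => rw [← K0_fix hk, Tr_smul]
      rw [mem_Tr, mem_Tr, hwv] at h1
      simp only [adj, hwv, L_val hr0, L_val (show 1475 < 4060 by norm_num), w1, true_and] at h1
      rw [Bool.eq_iff_iff.2 h1] at w3
      simp at w3

end CfsgLib.RuRecog
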