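import Cfsg.Agent.Lib.RuRecog.Stab

set_option autoImplicit false
set_option maxRecDepth 100000

/-!
The centraliser of an element of order thirteen and the bound on its normaliser.
-/

namespace CfsgLib.RuRecog

open Cfsg.Spor CfsgLib.RuLattice Finset MulAction

/-- The element of order thirteen. -/
noncomputable def xS : Sg := el xW

/-- Two words giving the same images of four lines. -/
def sameFour (v w : List ℕ) : Bool :=
  let3 v && let3 w && [1, 249, 427, 3].all fun n => Nat.beq (wl v n) (wl w n)

theorem el_eq {v w : List ℕ} (h : sameFour v w = true) : el v = el w := by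
  simp only [sameFour, Bool.and_eq_true, List.all_eq_true, Nat.beq_eq] at h
  refine ext_four fun n hn => ?_
  have : n < 4060 := by simp only [List.mem_cons, List.not_mem_nil, or_false] at hn; omega
  rw [el_L h.1.1 this, el_L h.1.2 this, h.2 n hn]

theorem el_nil : el [] = 1 := Subtype.ext (by rw [el_val rfl]; rfl)

theorem let3_rep {w : List ℕ} (h : let3 w = true) : ∀ n, let3 (rep n w) = true
  | 0 => rfl
  | n + 1 => by
    have a := let3_rep h n
    simp only [rep, let3, List.all_append, Bool.and_eq_true] at h a ⊢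
    exact ⟨h, a⟩

theorem el_rep {w : List ℕ} (h : let3 w = true) : ∀ n, el (rep n w) = el w ^ n
  | 0 => el_nil
  | n + 1 => by rw [rep, el_append h (let3_rep h n), el_rep h n, pow_succ']

theorem xW_let3 : let3 xW = true ∧ let3 sxW = true ∧ let3 yW = true := by decide +kernel

theorem x_facts : sameFour (rep 13 xW) [] = true ∧ sameFour xW [] = false ∧ sameFour (yW ++ xW) (rep 2 xW ++ yW) = true ∧
    sameFour (rep 12 yW) [] = true ∧ sameFour (rep 6 yW) [] = false ∧ sameFour (rep 4 yW) [] = false := by decide +kernel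

theorem el_ne {v : List ℕ} (hv : let3 v = true) (h : sameFour v [] = false) : el v ≠ 1 := by
  intro e
  rw [← el_nil] at e
  refine Bool.false_ne_true (h.symm.trans ?_)
  simp only [sameFour, Bool.and_eq_true, List.all_eq_true, Nat.beq_eq]
  refine ⟨⟨hv, rfl⟩, fun n hn => ?_⟩
  have hlt : n < 4060 := by simp only [List.mem_cons, List.not_mem_nil, or_false] at hn; omega
  have := congrArg (fun g : Sg => g • L n) e
  simp only [el_L hv hlt, el_L (show let3 [] = true from rfl) hlt] at this
  exact L_inj (wl_lt hv hlt) (wl_lt rfl hlt) this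

theorem xS_pow : xS ^ 13 = 1 := by rw [xS, ← el_rep xW_let3.1, el_eq x_facts.1, el_nil]

theorem xS_order : orderOf xS = 13 := by
  haveI : Fact (Nat.Prime 13) := ⟨by norm_num⟩
  exact orderOf_eq_prime xS_pow (el_ne xW_let3.1 x_facts.2.1)

/-- The element of order twelve normalizing it. -/
noncomputable def yS : Sg := el yW

theorem yS_order : orderOf yS = 12 := by
  obtain ⟨-, -, hy⟩ := xW_let3
  obtain ⟨-, -, -, h12, h6, h4⟩ := x_facts
  have a : yS ^ 12 = 1 := by rw [yS, ← el_rep hy, el_eq h12, el_nil]
  have b6 : yS ^ 6 ≠ 1 := by rw [yS, ← el_rep hy]; exact el_ne (let3_rep hy _) h6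
  have b4 : yS ^ 4 ≠ 1 := by rw [yS, ← el_rep hy]; exact el_ne (let3_rep hy _) h4
  have hd := orderOf_dvd_of_pow_eq_one a
  have h1 : ¬ orderOf yS ∣ 6 := fun h => b6 (orderOf_dvd_iff_pow_eq_one.1 h)
  have h2 : ¬ orderOf yS ∣ 4 := fun h => b4 (orderOf_dvd_iff_pow_eq_one.1 h)
  have := Nat.le_of_dvd (by norm_num) hd
  interval_cases orderOf yS <;> omega

theorem yS_conj : yS * xS * yS⁻¹ = xS ^ 2 := by
  obtain ⟨hx, -, hy⟩ := xW_let3
  rw [mul_inv_eq_iff_eq_mul, yS, xS, ← el_rep hx, ← el_append hy hx, ← el_append (let3_rep hx _) hy, el_eq x_facts.2.2.1]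

/-- The cycle of a small line under the element of order thirteen. -/
def cyc : List ℕ := [87, 1979, 818, 2421, 1941, 1239, 2092, 2352, 376, 250, 2399, 2464, 2114]

/-- The pattern of the orthogonalities along that cycle. -/
def cycBits : List Bool := [true, false, true, false, false, false]

/-- A line off the cycle with the same pattern does not occur. -/
def sigStep (q : ℕ) : Bool :=
  !(smallB q) || cyc.any (fun c => Nat.beq q c) ||
    (List.range 6).any fun j => !(adjN (wl (rep (j + 1) xW) q) q == cycBits.getD j false)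

theorem cyc_check : ((List.range 13).all fun j => Nat.beq (wl (rep j xW) 87) (cyc.getD j 0)) = true ∧
    ((List.range 6).all fun j => adjN (wl (rep (j + 1) xW) 87) 87 == cycBits.getD j false) = true ∧
    cyc.length = 13 ∧ smallB 87 = true ∧ wl sxW 87 = 1 := by decide +kernel

theorem sig0 : chunk sigStep 4060 0 = true := by decide +kernel
theorem sig1 : chunk sigStep 4060 1 = true := by decide +kernel
theorem sig2 : chunk sigStep 4060 2 = true := by decide +kernel
theorem sig3 : chunk sigStep 4060 3 = true := by decide +kernel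
theorem sig4 : chunk sigStep 4060 4 = true := by decide +kernel
theorem sig5 : chunk sigStep 4060 5 = true := by decide +kernel
theorem sig6 : chunk sigStep 4060 6 = true := by decide +kernel
theorem sig7 : chunk sigStep 4060 7 = true := by decide +kernel
theorem sig8 : chunk sigStep 4060 8 = true := by decide +kernel
theorem sig9 : chunk sigStep 4060 9 = true := by decide +kernel
theorem sig10 : chunk sigStep 4060 10 = true := by decide +kernel
theorem sig11 : chunk sigStep 4060 11 = true := by decide +kernel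
theorem sig12 : chunk sigStep 4060 12 = true := by decide +kernel
theorem sig13 : chunk sigStep 4060 13 = true := by decide +kernel
theorem sig14 : chunk sigStep 4060 14 = true := by decide +kernel
theorem sig15 : chunk sigStep 4060 15 = true := by decide +kernel

theorem cyc_mem_of_commute {h : Sg} (hc : h * xS = xS * h) : ∃ j, h • L 87 = (xS ^ j) • L 87 := by
  obtain ⟨hx, -, -⟩ := xW_let3
  obtain ⟨c1, c2, c3, c4, -⟩ := cyc_check
  simp only [List.all_eq_true, List.mem_range, Nat.beq_eq, beq_iff_eq] at c1 c2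
  have key := all_of_chunks (p := sigStep) (N := 4060) 16 (by norm_num) fun b hb => by
    interval_cases b
    exacts [sig0, sig1, sig2, sig3, sig4, sig5, sig6, sig7, sig8, sig9, sig10, sig11, sig12, sig13, sig14, sig15]
  simp only [List.all_eq_true, List.mem_range] at key
  have hs : smallB (h • L 87 : Fin 4060) = true := by rw [small_Sg, L_val (by norm_num)]; exact c4
  have h' := key _ (h • L 87 : Fin 4060).2
  simp only [sigStep, Bool.or_eq_true, Bool.not_eq_true', List.any_eq_true, List.mem_range, Nat.beq_eq] at h'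
  rcases h' with (e | ⟨c, hc', e⟩) | ⟨j, hj, e⟩
  · rw [hs] at e; exact absurd e (by decide)
  · obtain ⟨i, hi, rfl⟩ := List.getElem_of_mem hc'
    refine ⟨i, Fin.ext ?_⟩
    rw [e, xS, ← el_rep hx i, pt_el (let3_rep hx i), L_val (by norm_num), c1 i (c3 ▸ hi), List.getD_eq_getElem _ _ hi]
  · exfalso
    have hcomm : el (rep (j + 1) xW) • (h • L 87) = h • (el (rep (j + 1) xW) • L 87) := by
      rw [el_rep hx, smul_smul, smul_smul, ← xS, (Commute.pow_right (show Commute h xS from hc) (j + 1)).eq]
    have a : adjN (wl (rep (j + 1) xW) (h • L 87 : Fin 4060)) (h • L 87 : Fin 4060) =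
        adj (el (rep (j + 1) xW) • (h • L 87)) (h • L 87) := by
      rw [adj, pt_el (let3_rep hx _)]
    have b : adjN (wl (rep (j + 1) xW) 87) 87 = adj (el (rep (j + 1) xW) • L 87) (L 87) := by
      rw [adj, pt_el (let3_rep hx _), L_val (by norm_num)]
    rw [a, hcomm, adj_Sg, ← b, c2 j hj] at e
    simp at e

/-- An entry of a probe table. -/
def tabAt (t idx : ℕ) : ℕ := (t >>> (12 * idx)) % 4096

/-- The probe table at one place. -/
def probeStep (t p d : ℕ) : Bool :=
  (List.range 20).all fun j =>
    bif Nat.beq d 0 then Nat.beq (tabAt t j) (wl (kWord j) p)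
    else Nat.beq (tabAt t (20 * d + j)) (wl (subW.getD (fG (730 + d)) []) (tabAt t (20 * (fP (730 + d) - 730) + j)))

theorem probe_spec {t p : ℕ} (hp : p < 4060) (h : (List.range 1024).all (probeStep t p) = true) :
    ∀ i, 730 ≤ i → i < 1754 → ∀ j < 20, ((tI i * kF j) • L p : Fin 4060) = L (tabAt t (20 * (i - 730) + j)) ∧
      tabAt t (20 * (i - 730) + j) < 4060 := by
  simp only [List.all_eq_true, List.mem_range] at h
  intro i
  induction i using Nat.strong_induction_on with
  | _ i ih =>
    intro hi hi' j hj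
    have h' := h (i - 730) (by omega)
    simp only [probeStep, List.all_eq_true, List.mem_range] at h'
    have hh := h' j hj
    obtain ⟨k1, -, -⟩ := kWord_spec hj
    rcases eq_or_lt_of_le hi with rfl | hlt
    · rw [show 730 - 730 = 0 from rfl, Nat.beq_refl, cond_true, Nat.beq_eq] at hh
      rw [tI_root, one_mul, kF, el_L k1 hp, show 20 * (730 - 730) + j = j by omega, hh]
      exact ⟨rfl, wl_lt k1 hp⟩
    · rw [show Nat.beq (i - 730) 0 = false by rw [← Bool.not_eq_true, Nat.beq_eq]; omega, cond_false, Nat.beq_eq,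
        show 730 + (i - 730) = i by omega] at hh
      obtain ⟨h1, h2, -, -, h5, h6⟩ := tI_step hlt hi'
      obtain ⟨a, b⟩ := ih _ h1 h2 (by omega) j hj
      rw [h6, mul_assoc, mul_smul, a, el_L h5 b, hh]
      exact ⟨rfl, wl_lt h5 b⟩

theorem probeX_check : (List.range 1024).all (probeStep probeX (wl sxW (wl xW 87))) = true := by decide +kernel

/-- The survivors among the stored elements: only the identity fixes the whole cycle. -/
def centStep (d : ℕ) : Bool :=
  (List.range 20).all fun j =>
    !(Nat.beq (tabAt probeX (20 * d + j)) (wl sxW (wl xW 87))) || (Nat.beq d 0 && Nat.beq j 0) ||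
      cyc.any fun c => !(Nat.beq (wl (pW 1100 (730 + d) ++ kWord j) (wl sxW c)) (wl sxW c))

theorem cent_check : (List.range 1024).all centStep = true := by decide +kernel

/-- The element of order thirteen generates its centraliser. -/
theorem cent_xS {h : Sg} (hc : h * xS = xS * h) : h ∈ Subgroup.zpowers xS := by
  obtain ⟨hx, hsx, -⟩ := xW_let3
  obtain ⟨c1, -, c3, -, c5⟩ := cyc_check
  simp only [List.all_eq_true, List.mem_range, Nat.beq_eq] at c1
  obtain ⟨j0, e0⟩ := cyc_mem_of_commute hc
  set h' := (xS ^ j0)⁻¹ * h with hh'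
  have hc' : h' * xS = xS * h' := (((Commute.refl xS).pow_left j0).inv_left.mul_left (hc : Commute h xS)).eq
  have f0 : h' • L 87 = L 87 := by rw [hh', mul_smul, e0, inv_smul_smul]
  have fc : ∀ m, h' • ((xS ^ m) • L 87) = (xS ^ m) • L 87 := fun m => by
    rw [smul_smul, (Commute.pow_right (show Commute h' xS from hc') m).eq, mul_smul, f0]
  set s := el sxW
  have hs : s • L 87 = L 1 := by rw [el_L hsx (by norm_num), c5]
  set k := s * h' * s⁻¹
  have hk : k • L 1 = L 1 := by
    show (s * h' * s⁻¹) • L 1 = L 1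
    rw [mul_smul, mul_smul, ← hs, inv_smul_smul, f0]
  have hk' : ∀ m, k • (s • ((xS ^ m) • L 87)) = s • ((xS ^ m) • L 87) := fun m => by
    show (s * h' * s⁻¹) • _ = _
    rw [mul_smul, mul_smul, inv_smul_smul, fc]
  obtain ⟨i, hi, hi', j, hj, ek⟩ := stab_rep hk
  obtain ⟨a, b⟩ := probe_spec (wl_lt hsx (wl_lt hx (by norm_num))) probeX_check i hi hi' j hj
  have e1 : s • ((xS ^ 1) • L 87) = L (wl sxW (wl xW 87)) := by
    rw [pow_one, xS, el_L hx (by norm_num), el_L hsx (wl_lt hx (by norm_num))]
  have hprobe : tabAt probeX (20 * (i - 730) + j) = wl sxW (wl xW 87) := by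
    have := hk' 1
    rw [e1, ek, a] at this
    exact L_inj b (wl_lt hsx (wl_lt hx (by norm_num))) this
  have hcs := cent_check
  simp only [List.all_eq_true, List.mem_range, centStep, Bool.or_eq_true, Bool.and_eq_true, Bool.not_eq_true',
    ← Bool.not_eq_true, Nat.beq_eq, List.any_eq_true] at hcs
  rcases hcs (i - 730) (by omega) j hj with (e | ⟨ei, ej⟩) | ⟨c, hc'', e⟩
  · exact absurd hprobe e
  · have hk1 : k = 1 := by rw [ek, show i = 730 by omega, ej, tI_root, kF_zero, one_mul]
    have h1 : h' = 1 := by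
      have : h' = s⁻¹ * k * s := by show h' = s⁻¹ * (s * h' * s⁻¹) * s; group
      rw [this, hk1]; group
    rw [hh', inv_mul_eq_one] at h1
    rw [← h1]
    exact pow_mem (Subgroup.mem_zpowers _) _
  · exfalso
    obtain ⟨m, hm, rfl⟩ := List.getElem_of_mem hc''
    refine e ?_
    rw [show 730 + (i - 730) = i by omega]
    have hck := c1 m (c3 ▸ hm)
    rw [List.getD_eq_getElem _ _ hm] at hck
    obtain ⟨k1, -, -⟩ := kWord_spec hj
    have hp := pW_let3 1100 i hi hi'
    have ll : let3 (pW 1100 i ++ kWord j) = true := by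
      simp only [let3, List.all_append, Bool.and_eq_true] at hp k1 ⊢
      exact ⟨hp, k1⟩
    have := hk' m
    have hlt : cyc[m] < 4060 := by rw [← hck]; exact wl_lt (let3_rep hx m) (by norm_num)
    rw [xS, ← el_rep hx, el_L (let3_rep hx m) (by norm_num), hck, el_L hsx hlt, ek, tI, kF, ← el_append hp k1,
      el_L ll (wl_lt hsx hlt)] at this
    exact L_inj (wl_lt ll (wl_lt hsx hlt)) (wl_lt hsx hlt) this

/-- The normaliser of the group of order thirteen. -/
noncomputable abbrev NQ : Subgroup Sg := Subgroup.normalizer (Subgroup.zpowers xS : Subgroup Sg)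

theorem yS_mem_NQ : yS ∈ NQ := by
  refine Subgroup.mem_normalizer_iff.2 fun n => ?_
  have hconj : ∀ m : ℤ, yS * xS ^ m * yS⁻¹ = xS ^ (2 * m) := fun m => by
    rw [← conj_zpow, yS_conj, ← zpow_natCast xS 2, ← zpow_mul]; rfl
  constructor
  · intro hn
    obtain ⟨m, rfl⟩ := Subgroup.mem_zpowers_iff.1 hn
    exact Subgroup.mem_zpowers_iff.2 ⟨_, (hconj m).symm⟩
  · intro hn
    obtain ⟨m, hm⟩ := Subgroup.mem_zpowers_iff.1 hn
    refine Subgroup.mem_zpowers_iff.2 ⟨7 * m, ?_⟩
    have h7 := hconj (7 * m)
    have h14 : xS ^ (2 * (7 * m)) = xS ^ m := by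
      rw [show 2 * (7 * m) = m + 13 * m by ring, zpow_add, zpow_mul xS 13, show xS ^ (13 : ℤ) = 1 from xS_pow, one_zpow,
        mul_one]
    rw [h14, hm] at h7
    exact mul_left_cancel (mul_right_cancel h7)

theorem card_NQ : Nat.card NQ = 156 := by
  classical
  have hq : Nat.card (Subgroup.zpowers xS) = 13 := by rw [Nat.card_zpowers, xS_order]
  have hexp : ∀ h : NQ, ∃ k < 13, k ≠ 0 ∧ (h : Sg) * xS * (h : Sg)⁻¹ = xS ^ k := by
    intro h
    have := (Subgroup.mem_normalizer_iff.1 h.2 xS).1 (Subgroup.mem_zpowers _)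
    obtain ⟨n, hn⟩ := Subgroup.mem_zpowers_iff.1 this
    have e : xS ^ (n % 13).toNat = (h : Sg) * xS * (h : Sg)⁻¹ := by
      have := zpow_mod_orderOf xS n
      rw [xS_order, hn] at this
      rw [← this, ← zpow_natCast, Int.toNat_of_nonneg (Int.emod_nonneg _ (by norm_num))]
      rfl
    refine ⟨(n % 13).toNat, by omega, fun e0 => ?_, e.symm⟩
    rw [e0, pow_zero, eq_comm, mul_inv_eq_one] at e
    have hx1 : xS = 1 := mul_left_cancel (a := (h : Sg)) (by rw [mul_one]; exact e)
    have := xS_order
    rw [hx1, orderOf_one] at this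
    omega
  choose f hf1 hf2 hf3 using hexp
  have le : Nat.card NQ ≤ 156 := by
    have : Fintype NQ := Fintype.ofFinite _
    have : Fintype Sg := Fintype.ofFinite _
    have h := Finset.card_le_mul_card_image (f := f) (univ : Finset NQ) 13 fun k hk => by
      obtain ⟨h0, -, rfl⟩ := mem_image.1 hk
      refine le_trans (Finset.card_le_card_of_injOn (fun g : NQ => ((h0 : Sg)⁻¹ * g)) ?_ ?_)
        (show (univ.filter fun g : Sg => g ∈ Subgroup.zpowers xS).card ≤ 13 from ?_)
      · intro g hg
        simp only [coe_filter, mem_univ, true_and, Set.mem_setOf_eq] at hg ⊢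
        refine cent_xS ?_
        have a := hf3 g
        have b := hf3 h0
        rw [hg, ← b, mul_inv_eq_iff_eq_mul] at a
        rw [mul_assoc, a]
        group
      · intro a _ b _ e
        exact Subtype.ext (mul_left_cancel e)
      · rw [← Fintype.card_subtype, ← Nat.card_eq_fintype_card]
        exact le_of_eq hq
    have him : (univ.image f : Finset ℕ).card ≤ 12 := by
      refine le_trans (card_le_card (show univ.image f ⊆ (Finset.range 13).erase 0 from fun k hk => ?_)) (by simp)
      obtain ⟨g, -, rfl⟩ := mem_image.1 hk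
      exact mem_erase.2 ⟨hf2 g, mem_range.2 (hf1 g)⟩
    rw [card_univ, ← Nat.card_eq_fintype_card] at h
    omega
  have hxN : xS ∈ NQ := Subgroup.le_normalizer (Subgroup.mem_zpowers _)
  have hyN : yS ∈ NQ := yS_mem_NQ
  have d13 : 13 ∣ Nat.card NQ := by rw [← xS_order]; exact Subgroup.orderOf_dvd_natCard _ hxN
  have d12 : 12 ∣ Nat.card NQ := by rw [← yS_order]; exact Subgroup.orderOf_dvd_natCard _ hyN
  have : 0 < Nat.card NQ := Nat.card_pos
  omega

end CfsgLib.RuRecog
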