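import Cfsg.Agent.Lib.RuRecog.TraceX

set_option autoImplicit false
set_option maxRecDepth 100000

/-!
Elements of order dividing eight normalizing the cyclic group of order four and fixing a line.
-/

namespace CfsgLib.RuRecog

open Cfsg.Spor CfsgLib.RuLattice Finset MulAction

/-- The element of order four. -/
noncomputable def gS : Sg := el qW

/-- The element of order three. -/
noncomputable def rS : Sg := el rW

theorem g_facts : let3 qW = true ∧ let3 rW = true ∧ let3 sqW = true ∧ sameFour qW (rep 3 yW) = true ∧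
    sameFour rW (rep 4 yW) = true ∧ wl sqW 387 = 1 := by decide +kernel

theorem gS_eq : gS = yS ^ 3 := by rw [gS, yS, ← el_rep xW_let3.2.2, el_eq g_facts.2.2.2.1]

theorem rS_eq : rS = yS ^ 4 := by rw [rS, yS, ← el_rep xW_let3.2.2, el_eq g_facts.2.2.2.2.1]

theorem gS_order : orderOf gS = 4 := by rw [gS_eq, orderOf_pow, yS_order]; norm_num

/-- The small lines fixed by the element of order four. -/
def fixStep (q : ℕ) : Bool := !(smallB q) || !(Nat.beq (wl qW q) q) || fixQ.any (fun f => Nat.beq q f)

theorem fix_scan : (List.range 4060).all fixStep = true := by decide +kernel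

theorem fix_props : (fixQ.all fun f => Nat.blt f 4060 && smallB f && Nat.beq (wl qW f) f &&
    (List.range 3).any fun j => Nat.beq (wl (rep j rW) f) 387) = true := by decide +kernel

theorem fixQ_eq : fixQ = [387, 2811, 3999] := by decide +kernel

/-- The stored conjugate of the element of order four. -/
def permStep (p : ℕ) : Bool :=
  Nat.beq (tabAt qPerm (wl sqW p)) (wl (sqW ++ qW) p) && Nat.beq (tabAt qPermI (wl (sqW ++ qW) p)) (wl sqW p)

theorem perm_check : (List.range 4060).all permStep = true := by decide +kernel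

theorem probeQ_check : (List.range 1024).all (probeStep probeQ (wl sqW 1)) = true := by decide +kernel
theorem probeQQ_check : (List.range 1024).all (probeStep probeQQ (wl sqW (wl qW 1))) = true := by decide +kernel

/-- The four base lines. -/
def four : List ℕ := [1, 249, 427, 3]

/-- The normalizer test at four lines. -/
def badN (W : List ℕ) : Bool :=
  four.any fun p => !(Nat.beq (wl W (wl (sqW ++ qW) p)) (tabAt qPerm (wl W (wl sqW p)))) &&
    !(Nat.beq (wl W (wl (sqW ++ qW) p)) (tabAt qPermI (wl W (wl sqW p))))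

/-- The square test. -/
def badS (W : List ℕ) : Bool :=
  (List.range 4).all fun m => four.any fun p =>
    !(Nat.beq (wl W (wl W (wl sqW p))) (wl (sqW ++ rep m qW) p))

/-- The element of the seven cosets or of the cyclic group. -/
def zWord (l m : ℕ) : List ℕ := zW.getD l [] ++ rep m qW

/-- The match test. -/
def goodZ (W : List ℕ) : Bool :=
  (List.range 8).any fun l => (List.range 4).any fun m => four.all fun p =>
    Nat.beq (wl W (wl sqW p)) (wl (sqW ++ zWord l m) p)

/-- The survivors of the probe. -/
def zStep (d : ℕ) : Bool :=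
  (List.range 20).all fun j =>
    (!(Nat.beq (tabAt probeQQ (20 * d + j)) (tabAt qPerm (tabAt probeQ (20 * d + j)))) &&
      !(Nat.beq (tabAt probeQQ (20 * d + j)) (tabAt qPermI (tabAt probeQ (20 * d + j))))) ||
    badN (pW 1100 (730 + d) ++ kWord j) || goodZ (pW 1100 (730 + d) ++ kWord j) || badS (pW 1100 (730 + d) ++ kWord j)

theorem z_check : (List.range 1024).all zStep = true := by decide +kernel

theorem zW_let3 : zW.all let3 = true ∧ zW.length = 7 := by decide +kernel

theorem zWord_let3 (l m : ℕ) : let3 (zWord l m) = true := by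
  have h : let3 (zW.getD l []) = true := by
    rcases Nat.lt_or_ge l zW.length with hl | hl
    · rw [List.getD_eq_getElem _ _ hl]
      exact List.all_eq_true.1 zW_let3.1 _ (List.getElem_mem hl)
    · rw [List.getD_eq_default _ _ hl]; rfl
  have h2 := let3_rep g_facts.1 m
  simp only [zWord, let3, List.all_append, Bool.and_eq_true] at h h2 ⊢
  exact ⟨h, h2⟩

set_option maxHeartbeats 800000 in
/-- The possible elements. -/
theorem z_forms {z : Sg} (h387 : z • L 387 = L 387) (hn : z * gS * z⁻¹ = gS ∨ z * gS * z⁻¹ = gS⁻¹)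
    (hsq : z * z ∈ Subgroup.zpowers gS) : ∃ l < 8, ∃ m, z = el (zW.getD l []) * gS ^ m := by
  obtain ⟨hq, -, hs', -, -, c387⟩ := g_facts
  have hsq' : let3 (sqW ++ qW) = true := by
    have := hs'; have := hq
    simp only [let3, List.all_append, Bool.and_eq_true] at *
    exact ⟨by assumption, by assumption⟩
  set s := el sqW with hsdef
  set k := s * z * s⁻¹ with hkdef
  have hks : ∀ q : Fin 4060, k • (s • q) = s • (z • q) := fun q => by rw [hkdef, mul_smul, mul_smul, inv_smul_smul]
  have hk : k • L 1 = L 1 := by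
    have : s • L 387 = L 1 := by rw [hsdef, el_L hs' (by norm_num), c387]
    rw [← this, hks, h387]
  obtain ⟨i, hi, hi', j, hj, ek⟩ := stab_rep hk
  set W := pW 1100 i ++ kWord j with hW
  have hp := pW_let3 1100 i hi hi'
  obtain ⟨k1, -, -⟩ := kWord_spec hj
  have ll : let3 W = true := by
    simp only [hW, let3, List.all_append, Bool.and_eq_true] at hp k1 ⊢
    exact ⟨hp, k1⟩
  have ekW : k = el W := by rw [ek, hW, tI, kF, el_append hp k1]
  have hkL : ∀ n, n < 4060 → k • L n = L (wl W n) := fun n hn => by rw [ekW, el_L ll hn]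
  have perm := perm_check
  simp only [List.all_eq_true, List.mem_range, permStep, Bool.and_eq_true, Nat.beq_eq] at perm
  have hP : ∀ q : Fin 4060, tabAt qPerm (s • q : Fin 4060) = (s • (gS • q) : Fin 4060) ∧
      tabAt qPermI (s • (gS • q) : Fin 4060) = (s • q : Fin 4060) := by
    intro q
    have e : s • (gS • q) = el (sqW ++ qW) • q := by rw [hsdef, gS, el_append hs' hq, mul_smul]
    rw [e, hsdef, pt_el hsq', pt_el hs']
    exact perm q q.2
  have norm : ∀ p, p < 4060 → wl W (wl (sqW ++ qW) p) = tabAt qPerm (wl W (wl sqW p)) ∨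
      wl W (wl (sqW ++ qW) p) = tabAt qPermI (wl W (wl sqW p)) := by
    intro p hp
    have a : L (wl W (wl (sqW ++ qW) p)) = s • (z • (gS • L p)) := by
      rw [← hks, hsdef, gS, el_L hq hp, el_L hs' (wl_lt hq hp), ← el_L hs' (wl_lt hq hp), ← el_L hq hp,
        ← mul_smul (el sqW), ← el_append hs' hq, el_L hsq' hp, hkL _ (wl_lt hsq' hp)]
    have b : L (wl W (wl sqW p)) = s • (z • L p) := by
      rw [← hks, hsdef, el_L hs' hp, hkL _ (wl_lt hs' hp)]
    have l1 := L_val (wl_lt ll (wl_lt hsq' hp))
    have l2 := L_val (wl_lt ll (wl_lt hs' hp))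
    rw [← l1, ← l2, a, b]
    rcases hn with e | e
    · left
      rw [mul_inv_eq_iff_eq_mul] at e
      rw [(hP _).1, ← mul_smul z, e, mul_smul]
    · right
      rw [mul_inv_eq_iff_eq_mul] at e
      have h := (hP (gS⁻¹ • (z • L p))).2
      rw [smul_inv_smul] at h
      rw [h, ← mul_smul z, e, mul_smul]
  have hz := z_check
  simp only [List.all_eq_true, List.mem_range, zStep, Bool.or_eq_true, Bool.and_eq_true, Bool.not_eq_true',
    ← Bool.not_eq_true, Nat.beq_eq] at hz
  have hz' := hz (i - 730) (by omega) j hj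
  rw [show 730 + (i - 730) = i by omega, ← hW] at hz'
  obtain ⟨pa, qa⟩ := probe_spec (wl_lt hs' (by norm_num)) probeQ_check i hi hi' j hj
  obtain ⟨pb, qb⟩ := probe_spec (wl_lt hs' (wl_lt hq (by norm_num))) probeQQ_check i hi hi' j hj
  rw [← ek, hkL _ (wl_lt hs' (by norm_num))] at pa
  rw [← ek, hkL _ (wl_lt hs' (wl_lt hq (by norm_num)))] at pb
  have pa' := L_inj (wl_lt ll (wl_lt hs' (by norm_num))) qa pa
  have pb' := L_inj (wl_lt ll (wl_lt hs' (wl_lt hq (by norm_num)))) qb pb
  have happ : wl sqW (wl qW 1) = wl (sqW ++ qW) 1 := by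
    have a : el (sqW ++ qW) • L 1 = el sqW • (el qW • L 1) := by rw [el_append hs' hq, mul_smul]
    rw [el_L hsq' (by norm_num), el_L hq (by norm_num), el_L hs' (wl_lt hq (by norm_num))] at a
    exact (L_inj (wl_lt hsq' (by norm_num)) (wl_lt hs' (wl_lt hq (by norm_num))) a).symm
  rcases hz' with ((⟨e1, e2⟩ | e) | e) | e
  · exfalso
    rw [happ] at pb'
    rw [← pa', ← pb'] at e1 e2
    exact (norm 1 (by norm_num)).elim e1 e2
  · exfalso
    simp only [badN, List.any_eq_true, Bool.and_eq_true, Bool.not_eq_true', ← Bool.not_eq_true, Nat.beq_eq] at e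
    obtain ⟨p, hp, e1, e2⟩ := e
    exact (norm p (by simp only [four, List.mem_cons, List.not_mem_nil, or_false] at hp; omega)).elim e1 e2
  · simp only [goodZ, List.any_eq_true, List.all_eq_true, List.mem_range, Nat.beq_eq] at e
    obtain ⟨l, hl, m, hm, e⟩ := e
    refine ⟨l, hl, m, ?_⟩
    have hz2 : el (zWord l m) = el (zW.getD l []) * gS ^ m := by
      rw [zWord, el_append ?_ (let3_rep hq m), el_rep hq, gS]
      have := zWord_let3 l 0
      simpa [zWord, rep] using this
    rw [← hz2]
    refine ext_four fun p hp => ?_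
    have hlt : p < 4060 := by simp only [List.mem_cons, List.not_mem_nil, or_false] at hp; omega
    have hsz : let3 (sqW ++ zWord l m) = true := by
      have := hs'; have := zWord_let3 l m
      simp only [let3, List.all_append, Bool.and_eq_true] at *
      exact ⟨by assumption, by assumption⟩
    have := e p hp
    have h2 : s • (z • L p) = s • (el (zWord l m) • L p) := by
      rw [← hks, hsdef, el_L hs' hlt, hkL _ (wl_lt hs' hlt), this, ← mul_smul, ← el_append hs' (zWord_let3 l m),
        el_L hsz hlt]
    exact smul_left_cancel s h2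
  · exfalso
    obtain ⟨n, hn'⟩ := Subgroup.mem_zpowers_iff.1 hsq
    have h4 : gS ^ n = gS ^ (n % 4).toNat := by
      have := zpow_mod_orderOf gS n
      rw [gS_order] at this
      rw [← this, ← zpow_natCast, Int.toNat_of_nonneg (Int.emod_nonneg _ (by norm_num))]
      rfl
    simp only [badS, List.all_eq_true, List.any_eq_true, List.mem_range, Bool.not_eq_true', ← Bool.not_eq_true,
      Nat.beq_eq] at e
    obtain ⟨p, hp, ep⟩ := e (n % 4).toNat (by omega)
    have hlt : p < 4060 := by simp only [four, List.mem_cons, List.not_mem_nil, or_false] at hp; omega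
    have hsm : let3 (sqW ++ rep (n % 4).toNat qW) = true := by
      have := hs'; have := let3_rep hq (n % 4).toNat
      simp only [let3, List.all_append, Bool.and_eq_true] at *
      exact ⟨by assumption, by assumption⟩
    refine ep (L_inj (wl_lt ll (wl_lt ll (wl_lt hs' hlt))) (wl_lt hsm hlt) ?_)
    rw [← hkL _ (wl_lt ll (wl_lt hs' hlt)), ← hkL _ (wl_lt hs' hlt), ← el_L hs' hlt, ← hsdef, hks, hks, ← el_L hsm hlt,
      el_append hs' (let3_rep hq _), el_rep hq, mul_smul, ← hsdef, ← mul_smul z, ← hn', h4, gS]

end CfsgLib.RuRecog
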