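import Cfsg.Agent.Lib.Chev.Twist.F4Bits
import Cfsg.Agent.Lib.RuRecog.IsoData

set_option autoImplicit false
set_option maxRecDepth 100000

/-!
The action of ²F₄(2) on 1755 vectors of the adjoint module.
-/

namespace CfsgLib.RuRecog

open Cfsg.Lie Matrix CfsgLib.Chev

/-- The index type of the adjoint module. -/
abbrev FI : Type := Cfsg.Lie.chevF4.Idx

/-- The group. -/
noncomputable abbrev GT : Subgroup (GL FI (ZMod 2)) :=
  Cfsg.Lie.twistedF4 (ZMod 2) (2 ^ 0)

/-- A vector from its bits. -/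
def vec52 (v : ℕ) : FI → ZMod 2 := fun z => F4Bits.bit v (Pack.enc z)

/-- A word of root elements on bits. -/
def wordApp : List ℕ → ℕ → ℕ
  | [], v => v
  | r :: l, v => F4Bits.colStep (F4Bits.row r) (wordApp l v)

theorem wordApp_lt : ∀ (l : List ℕ) {v : ℕ}, v < 2 ^ 52 → wordApp l v < 2 ^ 52
  | [], _, h => h
  | r :: l, _, h => F4Bits.colStep_lt (F4Bits.row_ok r) (wordApp_lt l h)

/-- The roots of a word with nonzero parameters. -/
def supp (w : List (ℕ × ZMod 2)) : List ℕ := (w.filter fun p => p.2 = 1).map Prod.fst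

theorem zmod_two (t : ZMod 2) : t = 0 ∨ t = 1 := by revert t; decide

theorem wordMat_mulVec : ∀ (w : List (ℕ × ZMod 2)), (∀ p ∈ w, p.1 < 48) → ∀ {v : ℕ}, v < 2 ^ 52 →
    Cfsg.Lie.chevF4.wordMat (ZMod 2) w *ᵥ vec52 v = vec52 (wordApp (supp w) v)
  | [], _, v, _ => by simp [ChevalleyDatum.wordMat, supp, wordApp]
  | a :: w, h, v, hv => by
    obtain ⟨r, t⟩ := a
    have hr : r < Cfsg.Lie.chevF4.nroots := h _ List.mem_cons_self
    rw [Alg.wordMat_cons, ← Matrix.mulVec_mulVec,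
      wordMat_mulVec w (fun p hp => h p (List.mem_cons_of_mem _ hp)) hv,
      CfsgLib.Chev.chevF4.toAlg.x_val' hr]
    rcases zmod_two t with rfl | rfl
    · have hs : supp ((r, 0) :: w) = supp w := by simp [supp]
      rw [Alg.xg_zero, Units.val_one, Matrix.one_mulVec, hs]
    · have hs : supp ((r, 1) :: w) = r :: supp w := by
        rw [supp, List.filter_cons_of_pos (by simp), List.map_cons, supp]
      rw [hs]
      funext x
      exact (F4Bits.bit_linear (r := ⟨r, hr⟩) x 52 le_rfl _ (wordApp_lt _ hv)).symm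

/-- A stored vector. -/
def vAt (i : ℕ) : ℕ := (f4Vecs >>> (52 * i)) % 4503599627370496

/-- A stored permutation. -/
def gAt (k i : ℕ) : ℕ := (f4Perms.getD k 0 >>> (12 * i)) % 4096

/-- The vectors are increasing and permuted as stored. -/
def vecStep (i : ℕ) : Bool :=
  (Nat.beq i 1754 || Nat.blt (vAt i) (vAt (i + 1))) &&
    (List.range 8).all fun k => Nat.blt (gAt k i) 1755 && Nat.beq (wordApp (f4Gens.getD k []) (vAt i)) (vAt (gAt k i))

theorem vec_check : (List.range 1755).all vecStep = true := by decide +kernel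

theorem vAt_lt (i : ℕ) : vAt i < 2 ^ 52 := Nat.mod_lt _ (by norm_num)

theorem vAt_inj {i j : ℕ} (hi : i < 1755) (hj : j < 1755) (h : vAt i = vAt j) : i = j := by
  have hk := vec_check
  simp only [List.all_eq_true, List.mem_range, vecStep, Bool.and_eq_true, Bool.or_eq_true, Nat.beq_eq, Nat.blt_eq] at hk
  have mono : ∀ a b, a < b → b < 1755 → vAt a < vAt b := by
    intro a b hab
    induction b with
    | zero => omega
    | succ b ih =>
      intro hb
      have hs := (hk b (by omega)).1.resolve_left (by omega)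
      rcases Nat.lt_or_ge a b with e | e
      · exact (ih e (by omega)).trans hs
      · obtain rfl : a = b := by omega
        exact hs
  rcases Nat.lt_trichotomy i j with e | e | e
  · exact absurd h (Nat.ne_of_lt (mono _ _ e hj))
  · exact e
  · exact absurd h.symm (Nat.ne_of_lt (mono _ _ e hi))

theorem bit_ext {v w : ℕ} (hv : v < 2 ^ 52) (hw : w < 2 ^ 52) (h : vec52 v = vec52 w) : v = w := by
  refine Nat.eq_of_testBit_eq fun i => ?_
  rcases Nat.lt_or_ge i 52 with hi | hi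
  · obtain ⟨z, hz⟩ : ∃ z : FI, Pack.enc z = i := by
      by_cases h48 : i < 48
      · exact ⟨Sum.inr ⟨i, h48⟩, rfl⟩
      · exact ⟨Sum.inl ⟨i - 48, show i - 48 < 4 by omega⟩, show 48 + (i - 48) = i by omega⟩
    have := congrFun h z
    simp only [vec52, hz, F4Bits.bit] at this
    rcases hb : v.testBit i with _ | _ <;> rcases hc : w.testBit i with _ | _ <;> simp [hb, hc] at this ⊢
  · rw [Nat.testBit_lt_two_pow (hv.trans_le (Nat.pow_le_pow_right two_pos hi)),
      Nat.testBit_lt_two_pow (hw.trans_le (Nat.pow_le_pow_right two_pos hi))]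

/-- The stored vector as a vector. -/
def yv (i : Fin 1755) : FI → ZMod 2 := vec52 (vAt i)

theorem yv_inj : Function.Injective yv := fun i j h =>
  Fin.ext (vAt_inj i.2 j.2 (bit_ext (vAt_lt _) (vAt_lt _) h))

/-- The elements permuting the stored vectors. -/
def keep : Subgroup (GL FI (ZMod 2)) where
  carrier := {g | ∀ i, ∃ j, (g : Matrix FI FI (ZMod 2)) *ᵥ yv i = yv j}
  one_mem' i := ⟨i, by rw [Units.val_one, Matrix.one_mulVec]⟩
  mul_mem' {a b} ha hb i := by
    obtain ⟨j, hj⟩ := hb i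
    obtain ⟨l, hl⟩ := ha j
    exact ⟨l, by rw [Units.val_mul, ← Matrix.mulVec_mulVec, hj, hl]⟩
  inv_mem' {a} ha i := by
    choose f hf using ha
    have hi : Function.Injective f := fun x y e => yv_inj <| by
      have h : (a : Matrix FI FI (ZMod 2)) *ᵥ yv x = (a : Matrix FI FI (ZMod 2)) *ᵥ yv y := by rw [hf, hf, e]
      have := congrArg (fun u => ((a⁻¹ : GL FI (ZMod 2)) : Matrix FI FI (ZMod 2)) *ᵥ u) h
      simpa [Matrix.mulVec_mulVec] using this
    obtain ⟨j, rfl⟩ := (Finite.injective_iff_surjective.1 hi) i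
    exact ⟨j, by rw [← hf, Matrix.mulVec_mulVec, ← Units.val_mul, inv_mul_cancel, Units.val_one, Matrix.one_mulVec]⟩

theorem gens_small : f4Gens.length = 8 ∧ f4Gens = [[33, 24], [14, 23], [27, 25, 28], [28, 30], [27, 25, 30], [20, 22, 19],
    [19, 17], [20, 22, 17]] := by decide +kernel

/-- The word of a generator. -/
def genWord (k : ℕ) : List (ℕ × ZMod 2) := (f4Gens.getD k []).map fun r => (r, 1)

theorem supp_genWord (k : ℕ) : supp (genWord k) = f4Gens.getD k [] := by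
  simp [supp, genWord, List.filter_map, Function.comp_def]


theorem word_cases {w : List (ℕ × ZMod 2)} (hw : w ∈ f4Words (ZMod 2) 1) :
    (supp w = [] ∨ ∃ k < 8, supp w = f4Gens.getD k []) ∧ ∀ p ∈ w, p.1 < 48 := by
  rw [gens_small.2]
  rcases hw with ⟨t, rfl | rfl⟩ | ⟨t, u, rfl | rfl⟩
  all_goals rcases zmod_two t with rfl | rfl
  all_goals try rcases zmod_two u with rfl | rfl
  all_goals refine ⟨?_, by simp [f4PairWord, b2ClassWord, f4p1, f4p4, f4m1, f4m4, f4a, f4b, f4ab, f4aab, f4ma, f4mb,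
    f4mab, f4maab]⟩
  · exact Or.inl (by decide)
  · exact Or.inr ⟨0, by norm_num, by decide⟩
  · exact Or.inl (by decide)
  · exact Or.inr ⟨1, by norm_num, by decide⟩
  · exact Or.inl (by decide)
  · exact Or.inr ⟨3, by norm_num, by decide⟩
  · exact Or.inr ⟨2, by norm_num, by decide⟩
  · exact Or.inr ⟨4, by norm_num, by decide⟩
  · exact Or.inl (by decide)
  · exact Or.inr ⟨6, by norm_num, by decide⟩
  · exact Or.inr ⟨5, by norm_num, by decide⟩
  · exact Or.inr ⟨7, by norm_num, by decide⟩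

theorem GT_le_keep : GT ≤ keep := by
  rw [GT, pow_zero, twistedF4, ChevalleyDatum.genSubgroup, Subgroup.closure_le]
  rintro g ⟨w, hw, hg⟩ i
  obtain ⟨hs, hr⟩ := word_cases hw
  rw [hg, yv, wordMat_mulVec w hr (vAt_lt _)]
  rcases hs with e | ⟨k, hk, e⟩
  · exact ⟨i, by rw [e]; rfl⟩
  · have hc := vec_check
    simp only [List.all_eq_true, List.mem_range, vecStep, Bool.and_eq_true, Nat.beq_eq, Nat.blt_eq] at hc
    obtain ⟨h1, h2⟩ := (hc i i.2).2 k hk
    exact ⟨⟨_, h1⟩, by rw [e, h2]; rfl⟩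

/-- The image of a place. -/
noncomputable def rhoFun (g : GT) (i : Fin 1755) : Fin 1755 := Classical.choose (GT_le_keep g.2 i)

theorem rhoFun_spec (g : GT) (i : Fin 1755) :
    ((g : GL FI (ZMod 2)) : Matrix FI FI (ZMod 2)) *ᵥ yv i = yv (rhoFun g i) := Classical.choose_spec (GT_le_keep g.2 i)

theorem rhoFun_mul (g h : GT) (i : Fin 1755) : rhoFun (g * h) i = rhoFun g (rhoFun h i) := yv_inj <| by
  rw [← rhoFun_spec, Subgroup.coe_mul, Units.val_mul, ← Matrix.mulVec_mulVec, rhoFun_spec, rhoFun_spec]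

theorem rhoFun_one (i : Fin 1755) : rhoFun 1 i = i := yv_inj <| by
  rw [← rhoFun_spec, Subgroup.coe_one, Units.val_one, Matrix.one_mulVec]

/-- The permutation representation. -/
noncomputable def rho : GT →* Equiv.Perm (Fin 1755) where
  toFun g :=
    { toFun := rhoFun g
      invFun := rhoFun g⁻¹
      left_inv := fun i => by rw [← rhoFun_mul, inv_mul_cancel, rhoFun_one]
      right_inv := fun i => by rw [← rhoFun_mul, mul_inv_cancel, rhoFun_one] }
  map_one' := Equiv.ext rhoFun_one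
  map_mul' g h := Equiv.ext (rhoFun_mul g h)

theorem exists_gen {k : ℕ} (hk : k < 8) : ∃ g : GT, ∀ i : Fin 1755, ((rho g i : Fin 1755) : ℕ) = gAt k i := by
  have key : ∀ k < 8, ∃ w ∈ f4Words (ZMod 2) 1, supp w = f4Gens.getD k [] := by
    rw [gens_small.2]
    intro k hk
    interval_cases k
    exacts [⟨_, Or.inl ⟨1, Or.inl rfl⟩, by decide⟩, ⟨_, Or.inl ⟨1, Or.inr rfl⟩, by decide⟩,
      ⟨_, Or.inr ⟨1, 0, Or.inl rfl⟩, by decide⟩, ⟨_, Or.inr ⟨0, 1, Or.inl rfl⟩, by decide⟩,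
      ⟨_, Or.inr ⟨1, 1, Or.inl rfl⟩, by decide⟩, ⟨_, Or.inr ⟨1, 0, Or.inr rfl⟩, by decide⟩,
      ⟨_, Or.inr ⟨0, 1, Or.inr rfl⟩, by decide⟩, ⟨_, Or.inr ⟨1, 1, Or.inr rfl⟩, by decide⟩]
  obtain ⟨w, hw, e⟩ := key k hk
  obtain ⟨-, hr⟩ := word_cases hw
  obtain ⟨g, hg⟩ : ∃ g : GL FI (ZMod 2), (g : Matrix FI FI (ZMod 2)) = Cfsg.Lie.chevF4.wordMat (ZMod 2) w := by
    clear e hw
    induction w with
    | nil => exact ⟨1, by simp [ChevalleyDatum.wordMat]⟩
    | cons a w ih =>
      obtain ⟨g, hg⟩ := ih fun p hp => hr p (List.mem_cons_of_mem _ hp)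
      refine ⟨CfsgLib.Chev.chevF4.toAlg.xg ⟨a.1, hr a List.mem_cons_self⟩ a.2 * g, ?_⟩
      rw [Units.val_mul, Alg.wordMat_cons, CfsgLib.Chev.chevF4.toAlg.x_val' (hr a List.mem_cons_self), hg]
  refine ⟨⟨g, Subgroup.subset_closure ⟨w, (pow_zero 2 : (2 : ℕ) ^ 0 = 1).symm ▸ hw, hg⟩⟩, fun i => ?_⟩
  have hc := vec_check
  simp only [List.all_eq_true, List.mem_range, vecStep, Bool.and_eq_true, Nat.beq_eq, Nat.blt_eq] at hc
  obtain ⟨h1, h2⟩ := (hc i i.2).2 k hk
  suffices rho ⟨g, _⟩ i = ⟨gAt k i, h1⟩ from congrArg Fin.val this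
  refine yv_inj ((rhoFun_spec _ i).symm.trans ?_)
  show (g : Matrix FI FI (ZMod 2)) *ᵥ yv i = _
  rw [hg, yv, wordMat_mulVec w hr (vAt_lt _), e, h2]
  rfl

end CfsgLib.RuRecog
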